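import Cfsg.Agent.Lib.Spor.SuzY.Perfect
import Cfsg.Agent.Lib.Spor.SuzTypeBridge

/-!
Groups of Suzuki sporadic type: the centraliser of an element of order three whose commutator with the
extraspecial subgroup is a quaternion group.
-/

set_option autoImplicit false
set_option maxRecDepth 100000
set_option linter.unusedSectionVars false

namespace Cfsg.Agent.Spor.SuzT.Three

open scoped commutatorElement

universe u

variable {G : Type u} [Group G] [Finite G] {z : G} {Q : Subgroup G}

theorem exists_ctx (h : Hyp z Q) {y : G} (hyz : Commute y z) (y3 : y ^ 3 = 1) (y1 : y ≠ 1) (D : Subgroup G)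
    (hD : ∀ a ∈ Q, y * a * y⁻¹ * a⁻¹ ∈ D) (hc : Nat.card D ≤ 8) :
    ∃ K : Ctx z Q, K.y = y := by
  classical
  obtain ⟨F⟩ := exists_frame h
  set g := F.π (cC hyz) with hg
  have g1 : g ≠ 1 := fun e => y1 (Q_cube F h ((F.π_ker _).1 e) y3)
  have h8 : (Finset.univ.image fun v : V => g • v + v).card ≤ 8 := by
    haveI : Fintype D := Fintype.ofFinite D
    have hsub : (Finset.univ.image fun v : V => g • v + v) ⊆
        (Finset.univ (α := D)).image (fun d : D => F.vec (d : G)) := by
      intro w hw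
      obtain ⟨v, -, rfl⟩ := Finset.mem_image.1 hw
      obtain ⟨a, ha, rfl⟩ := F.vec_surj v
      refine Finset.mem_image.2 ⟨⟨_, hD a ha⟩, Finset.mem_univ _, ?_⟩
      show F.vec (y * a * y⁻¹ * a⁻¹) = _
      rw [F.vec_mul _ (h.norm y hyz a ha) _ (inv_mem ha), vec_inv F h ha, hg]
      exact congrArg (· + F.vec a) (F.vec_conj (cC hyz) a ha)
    refine (Finset.card_le_card hsub).trans (Finset.card_image_le.trans ?_)
    rw [Finset.card_univ, ← Nat.card_eq_fintype_card]
    exact hc
  obtain ⟨a, b, hr⟩ := rot_of (pi_cube F hyz y3) g1 h8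
  obtain ⟨c, hc1, hc2⟩ := SuzT.Three.exists_move hr.pair
  have hcg : c * g0 * c⁻¹ = g := by
    have := rot0.conj c
    rw [hc1, hc2] at this
    exact this.unique hr
  refine ⟨⟨h, twist F c⁻¹, y, hyz, y3, ?_⟩, rfl⟩
  show c⁻¹ * F.π (cC hyz) * c⁻¹⁻¹ = g0
  rw [← hg, ← hcg]; group

theorem simple_psu (F : UFour.Frame G) : IsSimpleGroup G := by
  obtain ⟨e0⟩ := F.gen_iso
  haveI := UFour.Frame.psu_simple
  exact (e0.trans ((MulEquiv.subgroupCongr F.gen_eq_top).trans Subgroup.topEquiv)).isSimpleGroup_congr.mp inferInstance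

theorem not_comm_psu (F : UFour.Frame G) : ¬ ∀ a b : G, a * b = b * a := by
  intro hcomm
  haveI : Nontrivial G := by
    haveI := simple_psu F
    infer_instance
  haveI : Fact (Nat.Prime 2) := ⟨Nat.prime_two⟩
  obtain ⟨t, ht⟩ := exists_prime_orderOf_dvd_card' (G := G) 2 (by rw [F.card_eq]; norm_num)
  obtain ⟨u, w, w', a, b, -, hu1, -, -, -, -, -, -, -, -, hab⟩ := F.witness t ht
  rw [hcomm b a] at hab
  exact hu1 (mul_eq_right.1 hab.symm)

theorem Ctx.perfect (K : Ctx z Q) (F : UFour.Frame (K.L ⧸ K.P)) : Group.IsPerfect K.L := by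
  haveI := simple_psu F
  have hy : K.P ≤ _root_.commutator K.L := by
    intro p hp
    obtain ⟨i, -, hi⟩ := K.exists_nat (Subgroup.mem_subgroupOf.1 hp)
    have h1 : ⁅K.L, K.L⁆ = (_root_.commutator K.L).map K.L.subtype := by
      rw [_root_.commutator_def, Subgroup.map_commutator, ← MonoidHom.range_eq_map, Subgroup.range_subtype]
    have h2 : (p : G) ∈ (_root_.commutator K.L).map K.L.subtype := by
      rw [hi, ← h1]; exact pow_mem K.y_mem_comm i
    obtain ⟨q, hq, e⟩ := h2
    rwa [← Subtype.ext (show (q : G) = p from e)]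
  refine (Group.isPerfect_def (G := K.L)).2 (eq_top_iff.2 fun x _ => ?_)
  haveI hn : (_root_.commutator (K.L ⧸ K.P)).Normal := inferInstance
  rcases hn.eq_bot_or_eq_top with e | e
  · exfalso
    refine not_comm_psu F fun a b => ?_
    have := Subgroup.commutator_mem_commutator (Subgroup.mem_top a) (Subgroup.mem_top b)
    rw [← _root_.commutator_def, e, Subgroup.mem_bot] at this
    exact commutatorElement_eq_one_iff_mul_comm.1 this
  · have hx : K.pr x ∈ (_root_.commutator K.L).map K.pr := by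
      rw [_root_.commutator_def, Subgroup.map_commutator, Subgroup.map_top_of_surjective _ (QuotientGroup.mk'_surjective K.P), ← _root_.commutator_def, e]; trivial
    obtain ⟨q, hq, hqx⟩ := hx
    have h1 : q⁻¹ * x ∈ K.P := QuotientGroup.eq.1 hqx
    simpa using mul_mem hq (hy h1)

theorem Ctx.main (K : Ctx z Q) (K9 : Type) [Field K9] [Fintype K9] (hK : Fintype.card K9 = 9) :
    Cfsg.IsQuasisimple K.L ∧ Nonempty (K.L ⧸ K.P ≃* Cfsg.PSU 4 K9 3) ∧
      K.L.relIndex (Subgroup.normalizer (Subgroup.zpowers K.y : Set G)) = 2 := by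
  obtain ⟨P1, P2, ht1, ht2, o⟩ := K.exists_planes
  obtain ⟨F⟩ := K.frame ⟨P1, P2, ht1, ht2, o⟩
  haveI := simple_psu F
  refine ⟨⟨K.perfect F, ?_⟩, F.iso_psu K9 hK, ?_⟩
  · have hc : Subgroup.center K.L = K.P := by
      refine le_antisymm (fun x hx => ?_) fun p hp => Subgroup.mem_center_iff.2 fun g => ?_
      · haveI hn : ((Subgroup.center K.L).map K.pr).Normal :=
          Subgroup.Normal.map inferInstance _ (QuotientGroup.mk'_surjective K.P)
        rcases hn.eq_bot_or_eq_top with e | e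
        · have h1 : K.pr x ∈ (Subgroup.center K.L).map K.pr := ⟨x, hx, rfl⟩
          rw [e, Subgroup.mem_bot] at h1
          exact (QuotientGroup.eq_one_iff x).1 h1
        · exfalso
          refine not_comm_psu F fun a b => ?_
          obtain ⟨a', ha', rfl⟩ := (show a ∈ (Subgroup.center K.L).map K.pr by rw [e]; trivial)
          obtain ⟨b', rfl⟩ := QuotientGroup.mk'_surjective K.P b
          rw [← map_mul, ← map_mul, Subgroup.mem_center_iff.1 ha' b']
      · exact Subtype.ext ((Subgroup.mem_centralizer_iff.1 g.2) _ (Subgroup.mem_subgroupOf.1 hp)).symm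
    exact ((QuotientGroup.quotientMulEquivOfEq hc).isSimpleGroup_congr).mpr inferInstance
  · rw [Subgroup.relIndex, Subgroup.index_eq_two_iff]
    obtain ⟨d, hd, hdy⟩ := K.exists_inverter
    have hdN : d ∈ Subgroup.normalizer (Subgroup.zpowers K.y : Set G) := by
      rw [Subgroup.mem_normalizer_iff]
      intro n
      have e : (Subgroup.zpowers K.y).map (MulAut.conj d).toMonoidHom = Subgroup.zpowers K.y := by
        rw [MonoidHom.map_zpowers]
        show Subgroup.zpowers (d * K.y * d⁻¹) = _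
        rw [hdy, Subgroup.zpowers_inv]
      constructor
      · intro hn; rw [← e]; exact ⟨n, hn, rfl⟩
      · intro hn
        rw [← e] at hn
        obtain ⟨m, hm, em⟩ := hn
        change d * m * d⁻¹ = d * n * d⁻¹ at em
        rwa [← mul_left_cancel (mul_right_cancel em)]
    refine ⟨⟨d, hdN⟩, fun b => ?_⟩
    have hb : (b : G) * K.y * (b : G)⁻¹ = K.y ∨ (b : G) * K.y * (b : G)⁻¹ = K.y⁻¹ := by
      obtain ⟨i, hi, e⟩ := K.exists_nat ((Subgroup.mem_normalizer_iff.1 b.2 K.y).1 (Subgroup.mem_zpowers _))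
      interval_cases i
      · exact absurd (conj_eq_one_iff.1 (e.trans (pow_zero _))) K.y_ne
      · exact Or.inl (e.trans (pow_one _))
      · exact Or.inr (e.trans (inv_eq_of_mul_eq_one_right (by rw [← pow_succ', K.y3])).symm)
    have hyne : K.y⁻¹ ≠ K.y := fun e => by
      have h2 : K.y * K.y = 1 := by nth_rw 1 [← e]; exact inv_mul_cancel _
      have := K.y3
      rw [pow_succ, pow_two, h2, one_mul] at this
      exact K.y_ne this
    have memL : ∀ g : ↥(Subgroup.normalizer (Subgroup.zpowers K.y : Set G)),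
        g ∈ K.L.subgroupOf (Subgroup.normalizer (Subgroup.zpowers K.y : Set G)) ↔ (g : G) * K.y * (g : G)⁻¹ = K.y :=
      fun g => by
        rw [Subgroup.mem_subgroupOf]
        exact ⟨fun hg => by rw [(of_mem_cent K hg).eq, mul_inv_cancel_right],
          fun hg => commute_zp K (mul_inv_eq_iff_eq_mul.1 hg)⟩
    have e : ((b * ⟨d, hdN⟩ : ↥(Subgroup.normalizer (Subgroup.zpowers K.y : Set G))) : G) * K.y *
        ((b * ⟨d, hdN⟩ : ↥(Subgroup.normalizer (Subgroup.zpowers K.y : Set G))) : G)⁻¹ =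
        ((b : G) * K.y * (b : G)⁻¹)⁻¹ := by
      show (b : G) * d * K.y * ((b : G) * d)⁻¹ = _
      rw [show (b : G) * d * K.y * ((b : G) * d)⁻¹ = (b : G) * (d * K.y * d⁻¹) * (b : G)⁻¹ by group, hdy]
      group
    rw [memL, memL, e]
    rcases hb with h | h <;> rw [h]
    · exact Or.inr ⟨rfl, hyne⟩
    · exact Or.inl ⟨inv_inv _, hyne⟩

theorem of_statement {G : Type u} [Group G] [Finite G] (z : G) (hz : orderOf z = 2)
    (Q : Subgroup (Subgroup.centralizer ({z} : Set G))) [Q.Normal]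
    (hF : Cfsg.generalizedFittingSubgroup (Subgroup.centralizer ({z} : Set G)) = Q)
    (hQ : Cfsg.IsExtraspecial 2 Q) (hcard : Nat.card Q = 2 ^ 7)
    (e : (Subgroup.centralizer ({z} : Set G)) ⧸ Q ≃* Cfsg.Omega (ZMod 2) (Cfsg.quadFormMinus 2 (ZMod 2) 1 1))
    (hnwc : ∃ g : G, (∃ hq : g * z * g⁻¹ ∈ Subgroup.centralizer ({z} : Set G),
      (⟨g * z * g⁻¹, hq⟩ : Subgroup.centralizer ({z} : Set G)) ∈ Q) ∧ g * z * g⁻¹ ≠ z)
    (Y : Subgroup (Subgroup.centralizer ({z} : Set G))) (hY : Nat.card Y = 3) (hQY : Nat.card ↥⁅Q, Y⁆ = 8) :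
    ∃ K : Ctx z (Q.map (Subgroup.centralizer ({z} : Set G)).subtype),
      Y.map (Subgroup.centralizer ({z} : Set G)).subtype = Subgroup.zpowers K.y := by
  have h := hyp_of_statement z hz Q hF hQ hcard e hnwc
  haveI : Fact (Nat.Prime 3) := ⟨Nat.prime_three⟩
  obtain ⟨y0, hy0⟩ := exists_prime_orderOf_dvd_card' (G := Y) 3 (by rw [hY])
  set y : G := ((y0 : Subgroup.centralizer ({z} : Set G)) : G) with hy
  have hyo : orderOf y = 3 := by rw [hy, Subgroup.orderOf_coe, Subgroup.orderOf_coe, hy0]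
  have hyz : Commute y z := mem_C.1 (y0 : Subgroup.centralizer ({z} : Set G)).2
  obtain ⟨K, hK⟩ := exists_ctx h hyz (hyo ▸ pow_orderOf_eq_one y) (fun e => by rw [e, orderOf_one] at hyo; omega)
    (⁅Q, Y⁆.map (Subgroup.centralizer ({z} : Set G)).subtype) (fun a ha => by
      obtain ⟨q, hq, rfl⟩ := ha
      refine ⟨⁅(y0 : Subgroup.centralizer ({z} : Set G)), q⁆, ?_, rfl⟩
      rw [Subgroup.commutator_comm]
      exact Subgroup.commutator_mem_commutator y0.2 hq)
    (by rw [Subgroup.card_map_of_injective (Subgroup.subtype_injective _), hQY])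
  refine ⟨K, ?_⟩
  rw [hK]
  have hyY : y ∈ Y.map (Subgroup.centralizer ({z} : Set G)).subtype := ⟨_, y0.2, rfl⟩
  refine (Subgroup.eq_of_le_of_card_ge (Subgroup.zpowers_le.2 hyY) ?_).symm
  rw [Subgroup.card_map_of_injective (Subgroup.subtype_injective _), hY, Nat.card_zpowers, hyo]

theorem final {G : Type u} [Group G] [Finite G] {z : G} {Q : Subgroup G} (K : Ctx z Q) (W : Subgroup G)
    (hW : W = Subgroup.zpowers K.y) [(W.subgroupOf (Subgroup.centralizer (W : Set G))).Normal]
    (K9 : Type) [Field K9] [Fintype K9] (hK : Fintype.card K9 = 9) :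
    Cfsg.IsQuasisimple ↥(Subgroup.centralizer (W : Set G)) ∧
      Nonempty (↥(Subgroup.centralizer (W : Set G)) ⧸ W.subgroupOf (Subgroup.centralizer (W : Set G)) ≃*
        Cfsg.PSU 4 K9 3) ∧
      (Subgroup.centralizer (W : Set G)).relIndex (Subgroup.normalizer (W : Set G)) = 2 := by
  subst hW
  exact K.main K9 hK

end Cfsg.Agent.Spor.SuzT.Three
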