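import Cfsg.Agent.Lib.Spor.SuzTypeFacts
import Cfsg.Agent.Lib.Spor.SuzY.Data
import Mathlib.Algebra.Group.Action.Prod

/-!
Rotations of anisotropic planes in the commutator subgroup of the isometry group of a minus form in dimension six
over two elements.
-/

set_option autoImplicit false
set_option maxRecDepth 100000
set_option linter.unusedSectionVars false

namespace Cfsg.Agent.Spor.SuzT.Three

open Chk Dat

/-- the first vector of the pair -/
def va : V := SuzT.vec 16

/-- the second vector of the pair -/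
def vb : V := SuzT.vec 32

/-- the first plane of the fixed space -/
def v5 : V := SuzT.vec 5

/-- the first plane of the fixed space -/
def v11 : V := SuzT.vec 11

/-- the second plane of the fixed space -/
def v10 : V := SuzT.vec 10

/-- the second plane of the fixed space -/
def v7 : V := SuzT.vec 7

/-- a pair spanning an anisotropic plane -/
def Pair (a b : V) : Prop := qm a = 1 ∧ qm b = 1 ∧ pol a b = 1

/-- a rotation of the plane of a pair -/
structure Rot3 (g : Ga) (a b : V) : Prop where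
  pair : Pair a b
  fst : g • a = b
  snd : g • b = a + b
  fix : ∀ v, pol v a = 0 → pol v b = 0 → g • v = v

theorem smul_add' (g : Ga) (v w : V) : g • (v + w) = g • v + g • w := (g : OG).1.map_add v w

theorem smul_pol (g : Ga) (v w : V) : pol (g • v) (g • w) = pol v w := iso_pol (g : OG) v w

theorem smul_qm (g : Ga) (v : V) : qm (g • v) = qm v := iso_q (g : OG) v

theorem Pair.smul {a b : V} (h : Pair a b) (c : Ga) : Pair (c • a) (c • b) :=
  ⟨by rw [smul_qm]; exact h.1, by rw [smul_qm]; exact h.2.1, by rw [smul_pol]; exact h.2.2⟩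

theorem Rot3.conj {g : Ga} {a b : V} (h : Rot3 g a b) (c : Ga) : Rot3 (c * g * c⁻¹) (c • a) (c • b) := by
  refine ⟨h.pair.smul c, ?_, ?_, fun v h1 h2 => ?_⟩
  · rw [mul_smul, mul_smul, inv_smul_smul, h.fst]
  · rw [mul_smul, mul_smul, inv_smul_smul, h.snd, smul_add']
  · rw [mul_smul, mul_smul, h.fix, smul_inv_smul]
    · rw [← smul_pol c, smul_inv_smul]; exact h1
    · rw [← smul_pol c, smul_inv_smul]; exact h2

/-- one row of the orbit -/
def rowOK (e : ℕ × ℕ × ℕ × ℕ × ℕ) : Bool :=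
  Nat.blt e.2.2.1 2 && Nat.beq (app (gn e.2.2.1) e.2.2.2.1) e.1 && Nat.beq (app (gn e.2.2.1) e.2.2.2.2) e.2.1

/-- one pair -/
def pkey (a b : ℕ) : ℕ := Nat.add (Nat.mul a 64) b

/-- the orbit is closed backwards -/
def prsOK : List (ℕ × ℕ × ℕ × ℕ × ℕ) → Bool
  | [] => true
  | e :: rest => rowOK e && ((Nat.beq e.2.2.2.1 16 && Nat.beq e.2.2.2.2 32) ||
      rest.any fun f => Nat.beq f.1 e.2.2.2.1 && Nat.beq f.2.1 e.2.2.2.2) && prsOK rest

theorem prs_ok : prsOK prs = true := by decide +kernel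

/-- the pairs on codes -/
def isPair (a b : ℕ) : Bool := Nat.beq (qc a) 1 && Nat.beq (qc b) 1 && Nat.beq (pc a b) 1

theorem prs_cover : ((List.range 64).all fun a => (List.range 64).all fun b => !isPair a b ||
    (Nat.beq a 16 && Nat.beq b 32) || prs.any fun f => Nat.beq f.1 a && Nat.beq f.2.1 b) = true := by
  decide +kernel

theorem prs_mem : ∀ L, prsOK L = true → ∀ e ∈ L, ∃ c : Ga, enc (c • va) = e.1 ∧ enc (c • vb) = e.2.1
  | [], _, e, he => absurd he List.not_mem_nil
  | f :: rest, h, e, he => by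
    simp only [prsOK, rowOK, Bool.and_eq_true, Bool.or_eq_true, List.any_eq_true] at h
    obtain ⟨⟨⟨⟨hi, ha⟩, hb⟩, hpar⟩, hrest⟩ := h
    rcases List.mem_cons.1 he with rfl | he
    · have hi' : e.2.2.1 < 2 := Nat.le_of_ble_eq_true hi
      obtain ⟨d, hd1, hd2⟩ : ∃ d : Ga, enc (d • va) = e.2.2.2.1 ∧ enc (d • vb) = e.2.2.2.2 := by
        rcases hpar with hp | ⟨f, hf, hp⟩
        · refine ⟨1, ?_, ?_⟩ <;> rw [one_smul]
          · rw [Nat.eq_of_beq_eq_true hp.1]; exact enc_vec 16 (by norm_num)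
          · rw [Nat.eq_of_beq_eq_true hp.2]; exact enc_vec 32 (by norm_num)
        · obtain ⟨d, hd⟩ := prs_mem rest hrest f hf
          exact ⟨d, hd.1.trans (Nat.eq_of_beq_eq_true hp.1), hd.2.trans (Nat.eq_of_beq_eq_true hp.2)⟩
      refine ⟨⟨gel e.2.2.1, gel_mem hi'⟩ * d, ?_, ?_⟩ <;> rw [mul_smul]
      · rw [enc_smul (g := ⟨gel e.2.2.1, gel_mem hi'⟩) (gel_cols hi'), hd1, Nat.eq_of_beq_eq_true ha]
      · rw [enc_smul (g := ⟨gel e.2.2.1, gel_mem hi'⟩) (gel_cols hi'), hd2, Nat.eq_of_beq_eq_true hb]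
    · exact prs_mem rest hrest e he

theorem pair_enc {a b : V} (h : Pair a b) : isPair (enc a) (enc b) = true := by
  have e1 := qc_lt (enc a)
  have e2 := qc_lt (enc b)
  have e3 : pc (enc a) (enc b) < 2 := Nat.mod_lt _ (by norm_num)
  have h1 := h.1; have h2 := h.2.1; have h3 := h.2.2
  rw [qm_enc] at h1 h2
  rw [pol_enc] at h3
  simp only [isPair, Bool.and_eq_true]
  have key : ∀ n : ℕ, n < 2 → (n : ZMod 2) = 1 → Nat.beq n 1 = true := by
    intro n hn hv
    interval_cases n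
    · exact absurd hv (by decide)
    · rfl
  exact ⟨⟨key _ e1 h1, key _ e2 h2⟩, key _ e3 h3⟩

theorem pair0 : Pair va vb := by refine ⟨?_, ?_, ?_⟩ <;> decide +kernel

theorem exists_move {a b : V} (h : Pair a b) : ∃ c : Ga, c • va = a ∧ c • vb = b := by
  have hc := List.all_eq_true.1 (List.all_eq_true.1 prs_cover (enc a) (List.mem_range.2 (enc_lt a))) (enc b)
    (List.mem_range.2 (enc_lt b))
  rw [pair_enc h] at hc
  simp only [Bool.not_true, Bool.false_or, Bool.or_eq_true, Bool.and_eq_true, List.any_eq_true] at hc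
  rcases hc with hc | ⟨f, hf, hc⟩
  · refine ⟨1, ?_, ?_⟩ <;> rw [one_smul] <;> apply enc_injective
    · rw [Nat.eq_of_beq_eq_true hc.1]; exact enc_vec 16 (by norm_num)
    · rw [Nat.eq_of_beq_eq_true hc.2]; exact enc_vec 32 (by norm_num)
  · obtain ⟨c, h1, h2⟩ := prs_mem prs prs_ok f hf
    exact ⟨c, enc_injective (h1.trans (Nat.eq_of_beq_eq_true hc.1)),
      enc_injective (h2.trans (Nat.eq_of_beq_eq_true hc.2))⟩

theorem span0 : ∀ v : V, ∃ w : V, (v = w ∨ v = w + va ∨ v = w + vb ∨ v = w + (va + vb)) ∧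
    pol w va = 0 ∧ pol w vb = 0 ∧ enc w < 16 := by decide +kernel

theorem unique0 {g h : Ga} (hg : Rot3 g va vb) (hh : Rot3 h va vb) : g = h := by
  refine Subtype.ext (Subtype.ext (LinearEquiv.ext fun v => ?_))
  show g • v = h • v
  obtain ⟨w, hw, h1, h2, -⟩ := span0 v
  rcases hw with e | e | e | e <;> rw [e] <;>
    simp only [smul_add', hg.fix w h1 h2, hh.fix w h1 h2, hg.fst, hg.snd, hh.fst, hh.snd]

theorem Rot3.unique {g h : Ga} {a b : V} (hg : Rot3 g a b) (hh : Rot3 h a b) : g = h := by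
  obtain ⟨c, rfl, rfl⟩ := exists_move hg.pair
  have := unique0 (g := c⁻¹ * g * c⁻¹⁻¹) (h := c⁻¹ * h * c⁻¹⁻¹)
    (by simpa using hg.conj c⁻¹) (by simpa using hh.conj c⁻¹)
  exact mul_left_cancel (mul_right_cancel this)

/-- the element fixing a four dimensional space -/
noncomputable def g0 : Ga := we wG

theorem wG_ok : (wlt wG && wp wG == [1, 2, 4, 8, 32, 48]) = true := by decide +kernel

theorem g0_cols : IsCols (g0 : OG) [1, 2, 4, 8, 32, 48] := by
  have h := wG_ok
  simp only [Bool.and_eq_true, beq_iff_eq] at h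
  exact h.2 ▸ we_cols h.1

theorem g0_fix : ∀ v : V, pol v va = 0 → pol v vb = 0 → app [1, 2, 4, 8, 32, 48] (enc v) = enc v := by
  decide +kernel

theorem rot0 : Rot3 g0 va vb := by
  refine ⟨pair0, enc_injective ?_, enc_injective ?_, fun v h1 h2 => enc_injective ?_⟩
  · rw [enc_smul g0_cols]; decide +kernel
  · rw [enc_smul g0_cols]; decide +kernel
  · rw [enc_smul g0_cols]; exact g0_fix v h1 h2

theorem exists_rot {a b : V} (h : Pair a b) : ∃ g : Ga, Rot3 g a b := by
  obtain ⟨c, rfl, rfl⟩ := exists_move h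
  exact ⟨_, rot0.conj c⟩

theorem pol_polar (v w : V) : pol v w = QuadraticMap.polar (⇑QF) v w := by
  simp only [QuadraticMap.polar, coe_QF, pol, sub_eq_add_neg, ZModModule.neg_eq_self]

theorem pol_addr (u v w : V) : pol u (v + w) = pol u v + pol u w := by
  simp only [pol_polar, QuadraticMap.polar_add_right]

theorem Rot3.shift {g : Ga} {a b : V} (h : Rot3 g a b) : Rot3 g b (a + b) := by
  refine ⟨?_, h.snd, ?_, fun v h1 h2 => h.fix v ?_ h1⟩
  · have := h.pair.smul g; rwa [h.fst, h.snd] at this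
  · rw [smul_add', h.fst, h.snd]
  · rw [pol_addr, h1, add_zero] at h2
    exact h2

theorem Rot3.cube {g : Ga} {a b : V} (h : Rot3 g a b) : g ^ 3 = 1 := by
  obtain ⟨c, rfl, rfl⟩ := exists_move h.pair
  rw [h.unique (rot0.conj c), conj_pow]
  have : (g0 : Ga) ^ 3 = 1 := by
    have hc : IsCols ((g0 ^ 3 : Ga) : OG) idL := by
      have e : mulL (mulL [1, 2, 4, 8, 32, 48] [1, 2, 4, 8, 32, 48]) [1, 2, 4, 8, 32, 48] = idL := by decide +kernel
      rw [pow_succ, pow_two]
      exact e ▸ (g0_cols.mul g0_cols).mul g0_cols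
    exact Subtype.ext (hc.ext IsCols.one)
  rw [this, mul_one, mul_inv_cancel]

theorem Rot3.inv {g : Ga} {a b : V} (h : Rot3 g a b) : Rot3 g⁻¹ b a := by
  have e : g⁻¹ = g * g := by
    refine inv_eq_of_mul_eq_one_right ?_
    rw [← mul_assoc, ← pow_two, ← pow_succ, h.cube]
  refine ⟨⟨h.pair.2.1, h.pair.1, ?_⟩, ?_, ?_, fun v h1 h2 => ?_⟩
  · rw [pol, add_comm b a, add_assoc, add_comm (qm b), ← add_assoc]; exact h.pair.2.2
  · rw [← h.fst, inv_smul_smul]
  · rw [e, mul_smul, h.fst, h.snd, add_comm]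
  · rw [inv_smul_eq_iff, h.fix v h2 h1]

end Cfsg.Agent.Spor.SuzT.Three
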