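import Cfsg.Agent.Lib.Spor.SuzY.Rot
import Mathlib.GroupTheory.GroupAction.Quotient
import Mathlib.Tactic.IntervalCases

/-!
The centraliser of the rotation of the first plane in the commutator subgroup of the isometry group of a minus
form in dimension six over two elements.
-/

set_option autoImplicit false
set_option maxRecDepth 100000
set_option linter.unusedSectionVars false

namespace Cfsg.Agent.Spor.SuzT.Three

open Chk Dat

/-- the fixed space -/
def InF (v : V) : Prop := enc v < 16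

theorem inF_iff : ∀ v : V, InF v ↔ pol v va = 0 ∧ pol v vb = 0 := by
  unfold InF; decide +kernel

theorem g0_moves : ∀ v : V, (app [1, 2, 4, 8, 32, 48] (enc v) = enc v) ↔ enc v < 16 := by decide +kernel

theorem fixed_iff (v : V) : g0 • v = v ↔ InF v := by
  rw [InF, ← g0_moves v, ← enc_smul g0_cols]
  exact ⟨fun e => by rw [e], fun e => enc_injective e⟩

theorem pair1 : Pair v5 v11 := by refine ⟨?_, ?_, ?_⟩ <;> decide +kernel

theorem pair2 : Pair v10 v7 := by refine ⟨?_, ?_, ?_⟩ <;> decide +kernel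

/-- the rotation of the first plane of the fixed space -/
noncomputable def t1 : Ga := (exists_rot pair1).choose

/-- the rotation of the second plane of the fixed space -/
noncomputable def t2 : Ga := (exists_rot pair2).choose

theorem rot1 : Rot3 t1 v5 v11 := (exists_rot pair1).choose_spec

theorem rot2 : Rot3 t2 v10 v7 := (exists_rot pair2).choose_spec

theorem inF_pairs : ∀ a b : Fin 16, isPair a b = true →
    ((a : ℕ) = 5 ∧ (b : ℕ) = 11) ∨ ((a : ℕ) = 11 ∧ (b : ℕ) = 14) ∨ ((a : ℕ) = 14 ∧ (b : ℕ) = 5) ∨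
    ((a : ℕ) = 11 ∧ (b : ℕ) = 5) ∨ ((a : ℕ) = 5 ∧ (b : ℕ) = 14) ∨ ((a : ℕ) = 14 ∧ (b : ℕ) = 11) ∨
    ((a : ℕ) = 10 ∧ (b : ℕ) = 7) ∨ ((a : ℕ) = 7 ∧ (b : ℕ) = 13) ∨ ((a : ℕ) = 13 ∧ (b : ℕ) = 10) ∨
    ((a : ℕ) = 7 ∧ (b : ℕ) = 10) ∨ ((a : ℕ) = 10 ∧ (b : ℕ) = 13) ∨ ((a : ℕ) = 13 ∧ (b : ℕ) = 7) := by
  decide +kernel

theorem rot_inF {g : Ga} {a b : V} (h : Rot3 g a b) (ha : InF a) (hb : InF b) :
    g = t1 ∨ g = t1⁻¹ ∨ g = t2 ∨ g = t2⁻¹ := by
  have e14 : v5 + v11 = SuzT.vec 14 := by decide +kernel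
  have e13 : v10 + v7 = SuzT.vec 13 := by decide +kernel
  have r1 : Rot3 t1 v11 (SuzT.vec 14) := e14 ▸ rot1.shift
  have r1' : Rot3 t1 (SuzT.vec 14) v5 := by
    have := r1.shift
    rwa [show v11 + SuzT.vec 14 = v5 by decide +kernel] at this
  have r2 : Rot3 t2 v7 (SuzT.vec 13) := e13 ▸ rot2.shift
  have r2' : Rot3 t2 (SuzT.vec 13) v10 := by
    have := r2.shift
    rwa [show v7 + SuzT.vec 13 = v10 by decide +kernel] at this
  have key : ∀ (n : ℕ) (v : V), enc v = n → v = SuzT.vec n := fun n v e => by rw [← e, vec_enc]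
  rcases inF_pairs ⟨enc a, ha⟩ ⟨enc b, hb⟩ (pair_enc h.pair) with
    ⟨e, e'⟩ | ⟨e, e'⟩ | ⟨e, e'⟩ | ⟨e, e'⟩ | ⟨e, e'⟩ | ⟨e, e'⟩ | ⟨e, e'⟩ | ⟨e, e'⟩ | ⟨e, e'⟩ | ⟨e, e'⟩ | ⟨e, e'⟩ |
      ⟨e, e'⟩ <;> rw [key _ _ e, key _ _ e'] at h
  · exact Or.inl (h.unique rot1)
  · exact Or.inl (h.unique r1)
  · exact Or.inl (h.unique r1')
  · exact Or.inr (Or.inl (h.unique rot1.inv))
  · exact Or.inr (Or.inl (h.unique r1'.inv))
  · exact Or.inr (Or.inl (h.unique r1.inv))
  · exact Or.inr (Or.inr (Or.inl (h.unique rot2)))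
  · exact Or.inr (Or.inr (Or.inl (h.unique r2)))
  · exact Or.inr (Or.inr (Or.inl (h.unique r2')))
  · exact Or.inr (Or.inr (Or.inr (h.unique rot2.inv)))
  · exact Or.inr (Or.inr (Or.inr (h.unique r2'.inv)))
  · exact Or.inr (Or.inr (Or.inr (h.unique r2.inv)))

theorem comm_inF {c : Ga} (hc : Commute c g0) {v : V} (hv : InF v) : InF (c • v) := by
  rw [← fixed_iff] at hv ⊢
  rw [← mul_smul, ← hc.eq, mul_smul, hv]

theorem conj_rot {c : Ga} (hc : Commute c g0) {g : Ga} {a b : V} (h : Rot3 g a b) (ha : InF a) (hb : InF b) :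
    c * g * c⁻¹ = t1 ∨ c * g * c⁻¹ = t1⁻¹ ∨ c * g * c⁻¹ = t2 ∨ c * g * c⁻¹ = t2⁻¹ :=
  rot_inF (h.conj c) (comm_inF hc ha) (comm_inF hc hb)

theorem inF_vals : InF v5 ∧ InF v11 ∧ InF v10 ∧ InF v7 ∧ InF e0 := by unfold InF; decide +kernel

theorem orth : pol v5 va = 0 ∧ pol v5 vb = 0 ∧ pol v11 va = 0 ∧ pol v11 vb = 0 ∧ pol v10 va = 0 ∧ pol v10 vb = 0 ∧
    pol v7 va = 0 ∧ pol v7 vb = 0 ∧ pol va v5 = 0 ∧ pol va v11 = 0 ∧ pol va v10 = 0 ∧ pol va v7 = 0 ∧
    pol vb v5 = 0 ∧ pol vb v11 = 0 ∧ pol vb v10 = 0 ∧ pol vb v7 = 0 ∧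
    pol v5 v10 = 0 ∧ pol v5 v7 = 0 ∧ pol v11 v10 = 0 ∧ pol v11 v7 = 0 ∧
    pol v10 v5 = 0 ∧ pol v7 v5 = 0 ∧ pol v10 v11 = 0 ∧ pol v7 v11 = 0 := by decide +kernel

theorem t1_fix : t1 • va = va ∧ t1 • vb = vb ∧ t1 • v10 = v10 ∧ t1 • v7 = v7 := by
  obtain ⟨-, -, -, -, -, -, -, -, o9, o10, -, -, o13, o14, -, -, -, -, -, -, o21, o22, o23, o24⟩ := orth
  exact ⟨rot1.fix _ o9 o10, rot1.fix _ o13 o14, rot1.fix _ o21 o23, rot1.fix _ o22 o24⟩

theorem t2_fix : t2 • va = va ∧ t2 • vb = vb ∧ t2 • v5 = v5 ∧ t2 • v11 = v11 := by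
  obtain ⟨-, -, -, -, -, -, -, -, -, -, o11, o12, -, -, o15, o16, o17, o18, o19, o20, -, -, -, -⟩ := orth
  exact ⟨rot2.fix _ o11 o12, rot2.fix _ o15 o16, rot2.fix _ o17 o18, rot2.fix _ o19 o20⟩

theorem g0_fix_four : g0 • v5 = v5 ∧ g0 • v11 = v11 ∧ g0 • v10 = v10 ∧ g0 • v7 = v7 :=
  ⟨(fixed_iff _).2 inF_vals.1, (fixed_iff _).2 inF_vals.2.1, (fixed_iff _).2 inF_vals.2.2.1,
    (fixed_iff _).2 inF_vals.2.2.2.1⟩

theorem span6 : ∀ v : V, ∃ a b c : Fin 4, v = [0, va, vb, va + vb][a] + [0, v5, v11, v5 + v11][b] +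
    [0, v10, v7, v10 + v7][c] := by decide +kernel

/-- the action on the six vectors determines an element -/
theorem ext6 {g h : Ga} (h1 : g • va = h • va) (h2 : g • vb = h • vb) (h3 : g • v5 = h • v5)
    (h4 : g • v11 = h • v11) (h5 : g • v10 = h • v10) (h6 : g • v7 = h • v7) : g = h := by
  refine Subtype.ext (Subtype.ext (LinearEquiv.ext fun v => ?_))
  show g • v = h • v
  obtain ⟨a, b, c, rfl⟩ := span6 v
  have h0 : g • (0 : V) = h • (0 : V) :=
    (g : OG).1.map_zero.trans (h : OG).1.map_zero.symm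
  rw [smul_add', smul_add', smul_add', smul_add']
  congr 1
  congr 1
  · fin_cases a <;> simp [smul_add', h0, h1, h2]
  · fin_cases b <;> simp [smul_add', h0, h3, h4]
  · fin_cases c <;> simp [smul_add', h0, h5, h6]

theorem comm_g_t1 : Commute g0 t1 := by
  obtain ⟨a, b, c, d⟩ := g0_fix_four
  obtain ⟨a', b', c', d'⟩ := t1_fix
  refine ext6 ?_ ?_ ?_ ?_ ?_ ?_ <;> simp only [mul_smul, smul_add', a, b, c, d, a', b', c', d', rot0.fst, rot0.snd,
    rot1.fst, rot1.snd]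

theorem comm_g_t2 : Commute g0 t2 := by
  obtain ⟨a, b, c, d⟩ := g0_fix_four
  obtain ⟨a', b', c', d'⟩ := t2_fix
  refine ext6 ?_ ?_ ?_ ?_ ?_ ?_ <;> simp only [mul_smul, smul_add', a, b, c, d, a', b', c', d', rot0.fst, rot0.snd,
    rot2.fst, rot2.snd]

theorem comm_t1_t2 : Commute t1 t2 := by
  obtain ⟨a, b, c, d⟩ := t1_fix
  obtain ⟨a', b', c', d'⟩ := t2_fix
  refine ext6 ?_ ?_ ?_ ?_ ?_ ?_ <;> simp only [mul_smul, smul_add', a, b, c, d, a', b', c', d', rot1.fst, rot1.snd,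
    rot2.fst, rot2.snd]

theorem pow_vals {g : Ga} {a b : V} (h : Rot3 g a b) :
    g ^ (0 : ℕ) • a = a ∧ g ^ (1 : ℕ) • a = b ∧ g ^ (2 : ℕ) • a = a + b ∧
      g ^ (0 : ℕ) • b = b ∧ g ^ (1 : ℕ) • b = a + b ∧ g ^ (2 : ℕ) • b = a := by
  refine ⟨by simp, by simp [h.fst], by rw [pow_two, mul_smul, h.fst, h.snd], by simp, by simp [h.snd], ?_⟩
  rw [pow_two, mul_smul, h.snd, smul_add', h.fst, h.snd, ← add_assoc, add_comm b a, add_assoc, ZModModule.add_self,
    add_zero]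

/-- the products -/
noncomputable def e3 (i j k : ℕ) : Ga := g0 ^ i * t1 ^ j * t2 ^ k

theorem pow_fix {g : Ga} {v : V} (h : g • v = v) (n : ℕ) : g ^ n • v = v := by
  induction n with
  | zero => simp
  | succ n ih => rw [pow_succ, mul_smul, h, ih]

theorem e3_act (i j k : ℕ) : e3 i j k • va = g0 ^ i • va ∧ e3 i j k • vb = g0 ^ i • vb ∧
    e3 i j k • v5 = t1 ^ j • v5 ∧ e3 i j k • v11 = t1 ^ j • v11 ∧
    e3 i j k • v10 = t2 ^ k • v10 ∧ e3 i j k • v7 = t2 ^ k • v7 := by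
  obtain ⟨a, b, c, d⟩ := g0_fix_four
  obtain ⟨a', b', c', d'⟩ := t1_fix
  obtain ⟨a'', b'', c'', d''⟩ := t2_fix
  have h1 : Commute (g0 ^ i) (t1 ^ j) := comm_g_t1.pow_pow i j
  have h2 : Commute (g0 ^ i * t1 ^ j) (t2 ^ k) := (comm_g_t2.pow_pow i k).mul_left (comm_t1_t2.pow_pow j k)
  refine ⟨?_, ?_, ?_, ?_, ?_, ?_⟩
  · rw [e3, mul_smul, mul_smul, pow_fix a'' k, pow_fix a' j]
  · rw [e3, mul_smul, mul_smul, pow_fix b'' k, pow_fix b' j]
  · rw [e3, h1.eq, mul_smul, mul_smul, pow_fix c'' k, pow_fix a i]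
  · rw [e3, h1.eq, mul_smul, mul_smul, pow_fix d'' k, pow_fix b i]
  · rw [e3, h2.eq, mul_smul, mul_smul, pow_fix c' j, pow_fix c i]
  · rw [e3, h2.eq, mul_smul, mul_smul, pow_fix d' j, pow_fix d i]

/-- the elements commuting with the three rotations -/
noncomputable def N3 : Subgroup Ga := Subgroup.centralizer ({g0, t1, t2} : Set Ga)

theorem mem_N3 {c : Ga} : c ∈ N3 ↔ Commute c g0 ∧ Commute c t1 ∧ Commute c t2 := by
  rw [N3, Subgroup.mem_centralizer_iff]
  constructor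
  · exact fun h => ⟨(h g0 (by simp)).symm, (h t1 (by simp)).symm, (h t2 (by simp)).symm⟩
  · rintro ⟨a, b, c⟩ x (rfl | rfl | rfl)
    exacts [a.eq.symm, b.eq.symm, c.eq.symm]

theorem e3_mem (i j k : ℕ) : e3 i j k ∈ N3 := by
  refine mul_mem (mul_mem (pow_mem ?_ i) (pow_mem ?_ j)) (pow_mem ?_ k) <;> rw [mem_N3]
  · exact ⟨Commute.refl _, comm_g_t1, comm_g_t2⟩
  · exact ⟨comm_g_t1.symm, Commute.refl _, comm_t1_t2⟩
  · exact ⟨comm_g_t2.symm, comm_t1_t2.symm, Commute.refl _⟩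

set_option synthInstance.maxSize 4000 in
theorem perp0 : ∀ v : V, qm v = 1 → pol v v5 = 0 → pol v v11 = 0 → pol v v10 = 0 → pol v v7 = 0 →
    v = va ∨ v = vb ∨ v = va + vb := by decide +kernel

theorem move_va {c : Ga} (hc : Commute c g0) : c • va = va ∨ c • va = vb ∨ c • va = va + vb := by
  have hci : Commute c⁻¹ g0 := hc.inv_left
  have key : ∀ w, InF w → pol (c • va) w = 0 := fun w hw => by
    have h := ((inF_iff _).1 (comm_inF hci hw)).1
    rw [← smul_pol c, smul_inv_smul] at h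
    rw [pol, add_comm (c • va) w, add_assoc, add_comm (qm (c • va)), ← add_assoc]
    exact h
  obtain ⟨f5, f11, f10, f7, -⟩ := inF_vals
  exact perp0 _ (by rw [smul_qm]; exact pair0.1) (key _ f5) (key _ f11) (key _ f10) (key _ f7)

theorem comm_move {c : Ga} (hc : Commute c g0) : ∃ i < 3, c • va = g0 ^ i • va ∧ c • vb = g0 ^ i • vb := by
  obtain ⟨p0, p1, p2, q0, q1, q2⟩ := pow_vals rot0
  have hb : c • vb = g0 • (c • va) := by rw [← mul_smul, ← hc.eq, mul_smul, rot0.fst]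
  rcases move_va hc with e | e | e <;> rw [e] at hb
  · exact ⟨0, by norm_num, by rw [p0, e], by rw [q0, hb, rot0.fst]⟩
  · exact ⟨1, by norm_num, by rw [p1, e], by rw [q1, hb, rot0.snd]⟩
  · refine ⟨2, by norm_num, by rw [p2, e], ?_⟩
    rw [q2, hb, smul_add', rot0.fst, rot0.snd, ← add_assoc, add_comm vb va, add_assoc, ZModModule.add_self, add_zero]

set_option synthInstance.maxSize 4000 in
theorem plane_vals : (∀ v : V, qm v = 1 → pol v va = 0 → pol v vb = 0 → pol v v10 = 0 → pol v v7 = 0 →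
    v = v5 ∨ v = v11 ∨ v = v5 + v11) ∧
    (∀ v : V, qm v = 1 → pol v va = 0 → pol v vb = 0 → pol v v5 = 0 → pol v v11 = 0 →
    v = v10 ∨ v = v7 ∨ v = v10 + v7) := by
  constructor <;> decide +kernel

theorem exists_pow {g c : Ga} {a b : V} (h : Rot3 g a b) (hcg : Commute c g)
    (hv : c • a = a ∨ c • a = b ∨ c • a = a + b) : ∃ i < 3, c • a = g ^ i • a ∧ c • b = g ^ i • b := by
  obtain ⟨p0, p1, p2, q0, q1, q2⟩ := pow_vals h
  have hb : c • b = g • (c • a) := by rw [← mul_smul, ← hcg.eq, mul_smul, h.fst]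
  rcases hv with e | e | e <;> rw [e] at hb
  · exact ⟨0, by norm_num, by rw [p0, e], by rw [q0, hb, h.fst]⟩
  · exact ⟨1, by norm_num, by rw [p1, e], by rw [q1, hb, h.snd]⟩
  · refine ⟨2, by norm_num, by rw [p2, e], ?_⟩
    rw [q2, hb, smul_add', h.fst, h.snd, ← add_assoc, add_comm b a, add_assoc, ZModModule.add_self, add_zero]

theorem fixes_of_comm {g c : Ga} {v : V} (h : g • v = v) (hc : Commute c g) : g • (c • v) = c • v := by
  rw [← mul_smul, ← hc.eq, mul_smul, h]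

theorem fix1_iff {v : V} (h : t1 • v = v) : pol v v5 = 0 ∧ pol v v11 = 0 := by
  have a : pol v v5 = pol v v11 := by
    conv_lhs => rw [← smul_pol t1, h, rot1.fst]
  have b : pol v v11 = pol v v5 + pol v v11 := by
    conv_lhs => rw [← smul_pol t1, h, rot1.snd, pol_addr]
  rw [a] at b ⊢
  have := (show ∀ x : ZMod 2, x = x + x → x = 0 by decide) _ b
  exact ⟨this, this⟩

theorem fix2_iff {v : V} (h : t2 • v = v) : pol v v10 = 0 ∧ pol v v7 = 0 := by
  have a : pol v v10 = pol v v7 := by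
    conv_lhs => rw [← smul_pol t2, h, rot2.fst]
  have b : pol v v7 = pol v v10 + pol v v7 := by
    conv_lhs => rw [← smul_pol t2, h, rot2.snd, pol_addr]
  rw [a] at b ⊢
  have := (show ∀ x : ZMod 2, x = x + x → x = 0 by decide) _ b
  exact ⟨this, this⟩

theorem N3_eq {c : Ga} (hc : c ∈ N3) : ∃ i < 3, ∃ j < 3, ∃ k < 3, c = e3 i j k := by
  obtain ⟨h0, h1, h2⟩ := mem_N3.1 hc
  obtain ⟨f5, f11, f10, f7, -⟩ := inF_vals
  obtain ⟨i, hi, ia, ib⟩ := comm_move h0
  have ja : c • v5 = v5 ∨ c • v5 = v11 ∨ c • v5 = v5 + v11 := by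
    have w := (inF_iff _).1 (comm_inF h0 f5)
    obtain ⟨x, y⟩ := fix2_iff (fixes_of_comm t2_fix.2.2.1 h2)
    exact plane_vals.1 _ (by rw [smul_qm]; exact pair1.1) w.1 w.2 x y
  have ka : c • v10 = v10 ∨ c • v10 = v7 ∨ c • v10 = v10 + v7 := by
    have w := (inF_iff _).1 (comm_inF h0 f10)
    obtain ⟨x, y⟩ := fix1_iff (fixes_of_comm t1_fix.2.2.1 h1)
    exact plane_vals.2 _ (by rw [smul_qm]; exact pair2.1) w.1 w.2 x y
  obtain ⟨j, hj, ja, jb⟩ := exists_pow rot1 h1 ja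
  obtain ⟨k, hk, ka, kb⟩ := exists_pow rot2 h2 ka
  obtain ⟨a1, a2, a3, a4, a5, a6⟩ := e3_act i j k
  exact ⟨i, hi, j, hj, k, hk, ext6 (by rw [a1, ia]) (by rw [a2, ib]) (by rw [a3, ja]) (by rw [a4, jb])
    (by rw [a5, ka]) (by rw [a6, kb])⟩

set_option synthInstance.maxSize 4000 in
theorem pow_inj {g : Ga} {a b : V} (h : Rot3 g a b) {i j : ℕ} (hi : i < 3) (hj : j < 3) (e : g ^ i • a = g ^ j • a) :
    i = j := by
  have hab : a ≠ b ∧ a ≠ a + b ∧ b ≠ a + b := by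
    have key : ∀ x y : V, qm x = 1 → qm y = 1 → pol x y = 1 → x ≠ y ∧ x ≠ x + y ∧ y ≠ x + y := by decide +kernel
    exact key a b h.pair.1 h.pair.2.1 h.pair.2.2
  obtain ⟨p0, p1, p2, -, -, -⟩ := pow_vals h
  interval_cases i <;> interval_cases j <;> simp only [p0, p1, p2] at e <;>
    first
    | rfl
    | exact absurd e hab.1
    | exact absurd e hab.2.1
    | exact absurd e hab.2.2
    | exact absurd e.symm hab.1
    | exact absurd e.symm hab.2.1
    | exact absurd e.symm hab.2.2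

theorem card_N3 : Nat.card N3 = 27 := by
  let f : Fin 3 × Fin 3 × Fin 3 → N3 := fun p => ⟨e3 p.1 p.2.1 p.2.2, e3_mem _ _ _⟩
  have hf : Function.Bijective f := by
    refine ⟨fun p q e => ?_, fun c => ?_⟩
    · have e' : e3 p.1 p.2.1 p.2.2 = e3 q.1 q.2.1 q.2.2 := congrArg Subtype.val e
      obtain ⟨a1, -, a3, -, a5, -⟩ := e3_act p.1 p.2.1 p.2.2
      obtain ⟨b1, -, b3, -, b5, -⟩ := e3_act q.1 q.2.1 q.2.2
      refine Prod.ext (Fin.ext (pow_inj rot0 p.1.2 q.1.2 (a1.symm.trans ((congrArg (· • va) e').trans b1))))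
        (Prod.ext (Fin.ext (pow_inj rot1 p.2.1.2 q.2.1.2 (a3.symm.trans ((congrArg (· • v5) e').trans b3))))
          (Fin.ext (pow_inj rot2 p.2.2.2 q.2.2.2 (a5.symm.trans ((congrArg (· • v10) e').trans b5)))))
    · obtain ⟨i, hi, j, hj, k, hk, e⟩ := N3_eq c.2
      exact ⟨(⟨i, hi⟩, ⟨j, hj⟩, ⟨k, hk⟩), Subtype.ext e.symm⟩
  rw [← Nat.card_eq_of_bijective f hf]; simp [Nat.card_eq_fintype_card]

theorem card_pairs : ((Finset.range 64 ×ˢ Finset.range 64).filter fun p => isPair p.1 p.2).card = 720 := by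
  decide +kernel

theorem pair_of_enc {a b : ℕ} (ha : a < 64) (hb : b < 64) (h : isPair a b = true) :
    Pair (SuzT.vec a) (SuzT.vec b) := by
  simp only [isPair, Bool.and_eq_true] at h
  refine ⟨?_, ?_, ?_⟩
  · rw [qm_enc, enc_vec a ha, Nat.eq_of_beq_eq_true h.1.1, Nat.cast_one]
  · rw [qm_enc, enc_vec b hb, Nat.eq_of_beq_eq_true h.1.2, Nat.cast_one]
  · rw [pol_enc, enc_vec a ha, enc_vec b hb, Nat.eq_of_beq_eq_true h.2, Nat.cast_one]

theorem orbit_pair : MulAction.orbit Ga (va, vb) = {p : V × V | Pair p.1 p.2} := by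
  ext p
  constructor
  · rintro ⟨c, rfl⟩; exact pair0.smul c
  · intro h
    obtain ⟨c, h1, h2⟩ := exists_move h
    exact ⟨c, Prod.ext h1 h2⟩

theorem card_stab : Nat.card (MulAction.stabilizer Ga (va, vb)) = 36 := by
  classical
  have h := MulAction.index_stabilizer Ga (va, vb)
  rw [orbit_pair] at h
  have hn : ({p : V × V | Pair p.1 p.2}).ncard = 720 := by
    rw [← card_pairs]
    refine Set.ncard_eq_toFinset_card' _ |>.trans ?_ |>.trans rfl
    refine Finset.card_bij (fun p _ => (enc p.1, enc p.2)) (fun p hp => ?_) (fun p _ q _ e => ?_) (fun q hq => ?_)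
    · simp only [Set.mem_toFinset, Set.mem_setOf_eq] at hp
      simp only [Finset.mem_filter, Finset.mem_product, Finset.mem_range]
      exact ⟨⟨enc_lt _, enc_lt _⟩, pair_enc hp⟩
    · exact Prod.ext (enc_injective (congrArg Prod.fst e)) (enc_injective (congrArg Prod.snd e))
    · simp only [Finset.mem_filter, Finset.mem_product, Finset.mem_range] at hq
      exact ⟨(SuzT.vec q.1, SuzT.vec q.2), by simpa using pair_of_enc hq.1.1 hq.1.2 hq.2,
        Prod.ext (enc_vec _ hq.1.1) (enc_vec _ hq.1.2)⟩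
  rw [hn] at h
  have hc := Subgroup.card_mul_index (MulAction.stabilizer Ga (va, vb))
  rw [h, card_Ga] at hc
  omega

/-- the centraliser of the rotation -/
noncomputable def C0 : Subgroup Ga := Subgroup.centralizer ({g0} : Set Ga)

theorem mem_C0 {c : Ga} : c ∈ C0 ↔ Commute c g0 := Subgroup.mem_centralizer_singleton_iff

theorem comm_of_fix {c : Ga} (h : c • (va, vb) = (va, vb)) : Commute c g0 := by
  have := rot0.conj c
  rw [show c • va = va from congrArg Prod.fst h, show c • vb = vb from congrArg Prod.snd h] at this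
  exact mul_inv_eq_iff_eq_mul.1 (this.unique rot0)

theorem card_C0 : Nat.card C0 = 108 := by
  have hle : MulAction.stabilizer Ga (va, vb) ≤ C0 := fun c hc =>
    mem_C0.2 (comm_of_fix (MulAction.mem_stabilizer_iff.1 hc))
  have hst : MulAction.stabilizer C0 (va, vb) = (MulAction.stabilizer Ga (va, vb)).subgroupOf C0 := by
    ext c; rfl
  have horb : MulAction.orbit C0 (va, vb) = {((va, vb) : V × V), (vb, va + vb), (va + vb, va)} := by
    obtain ⟨p0, p1, p2, q0, q1, q2⟩ := pow_vals rot0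
    ext p
    constructor
    · rintro ⟨⟨c, hc⟩, rfl⟩
      obtain ⟨i, hi, h1, h2⟩ := comm_move (mem_C0.1 hc)
      show (c • va, c • vb) ∈ _
      rw [h1, h2]
      interval_cases i <;> simp only [p0, p1, p2, q0, q1, q2, Set.mem_insert_iff, Set.mem_singleton_iff, true_or, or_true]
    · intro hp
      have hm : ∀ i, g0 ^ i ∈ C0 := fun i => mem_C0.2 (Commute.self_pow g0 i).symm
      rcases hp with rfl | rfl | rfl
      · exact ⟨1, one_smul _ _⟩
      · exact ⟨⟨_, hm 1⟩, Prod.ext p1 q1⟩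
      · exact ⟨⟨_, hm 2⟩, Prod.ext p2 q2⟩
  have h := MulAction.index_stabilizer C0 (va, vb)
  have hne : ({((va, vb) : V × V), (vb, va + vb), (va + vb, va)} : Set (V × V)).ncard = 3 := by
    have d : va ≠ vb ∧ va ≠ va + vb ∧ vb ≠ va + vb := by decide +kernel
    rw [Set.ncard_eq_three]
    exact ⟨_, _, _, fun e => d.1 (congrArg Prod.fst e), fun e => d.2.1 (congrArg Prod.fst e),
      fun e => d.2.2 (congrArg Prod.fst e), rfl⟩
  rw [horb, hne, hst] at h
  have hc := Subgroup.card_mul_index ((MulAction.stabilizer Ga (va, vb)).subgroupOf C0)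
  rw [h, Nat.card_congr (Subgroup.subgroupOfEquivOfLe hle).toEquiv, card_stab] at hc
  omega

theorem N3_normal {c n : Ga} (hc : Commute c g0) (hn : n ∈ N3) : c * n * c⁻¹ ∈ N3 := by
  obtain ⟨f5, f11, f10, f7, -⟩ := inF_vals
  have hci : Commute c⁻¹ g0 := hc.inv_left
  obtain ⟨n0, n1, n2⟩ := mem_N3.1 hn
  have four : ∀ t, (t = t1 ∨ t = t1⁻¹ ∨ t = t2 ∨ t = t2⁻¹) → Commute n t := by
    rintro t (rfl | rfl | rfl | rfl)
    exacts [n1, n1.inv_right, n2, n2.inv_right]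
  have key : ∀ t, Commute n (c⁻¹ * t * c) → Commute (c * n * c⁻¹) t := fun t h => by
    have := (Commute.conj_iff c).2 h
    rwa [show c * (c⁻¹ * t * c) * c⁻¹ = t by group] at this
  refine mem_N3.2 ⟨key _ ?_, key _ (four _ ?_), key _ (four _ ?_)⟩
  · rw [show c⁻¹ * g0 * c = g0 by rw [mul_assoc, ← hc.eq, inv_mul_cancel_left]]; exact n0
  · have := conj_rot hci rot1 f5 f11; rwa [inv_inv] at this
  · have := conj_rot hci rot2 f10 f7; rwa [inv_inv] at this

theorem odd_mem {c : Ga} (hc : Commute c g0) (ho : Odd (orderOf c)) : c ∈ N3 := by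
  have hle : N3 ≤ C0 := fun n hn => mem_C0.2 (mem_N3.1 hn).1
  haveI : (N3.subgroupOf C0).Normal := ⟨fun n hn d => N3_normal (mem_C0.1 d.2) hn⟩
  have h4 : Nat.card (C0 ⧸ N3.subgroupOf C0) = 4 := by
    have h := Subgroup.card_eq_card_quotient_mul_card_subgroup (N3.subgroupOf C0)
    rw [Nat.card_congr (Subgroup.subgroupOfEquivOfLe hle).toEquiv, card_N3, card_C0] at h
    omega
  set q := QuotientGroup.mk' (N3.subgroupOf C0) ⟨c, mem_C0.2 hc⟩
  have h1 : orderOf q ∣ 4 := h4 ▸ orderOf_dvd_natCard q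
  have h2 : orderOf q ∣ orderOf c :=
    (orderOf_map_dvd _ _).trans (Subgroup.orderOf_mk c (mem_C0.2 hc)).dvd
  have hco : (orderOf c).Coprime 4 := by
    rw [show (4 : ℕ) = 2 ^ 2 from rfl]
    exact Nat.Coprime.pow_right 2 ((Nat.coprime_two_right).2 ho)
  exact (QuotientGroup.eq_one_iff (N := N3.subgroupOf C0) ⟨c, mem_C0.2 hc⟩).1
    (orderOf_eq_one_iff.1 (Nat.eq_one_of_dvd_coprimes hco h2 h1))

/-- a pair exchanged by the element -/
theorem exchange : ∃ c : Ga, Commute c g0 ∧ c * t1 * c⁻¹ = t1⁻¹ ∧ c * t2 * c⁻¹ = t2⁻¹ := by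
  have hw : wlt wI = true ∧ app (wp wI) 16 = 16 ∧ app (wp wI) 32 = 32 ∧ app (wp wI) 5 = 11 ∧
      app (wp wI) 11 = 5 ∧ app (wp wI) 10 = 10 ∧ app (wp wI) 7 = 13 := by decide +kernel
  obtain ⟨w0, w1, w2, w3, w4, w5, w6⟩ := hw
  have act : ∀ a b, a < 64 → app (wp wI) a = b → we wI • SuzT.vec a = SuzT.vec b := fun a b ha e => by
    rw [we_smul w0 ha, e]
  refine ⟨we wI, comm_of_fix (Prod.ext (act 16 16 (by norm_num) w1) (act 32 32 (by norm_num) w2)), ?_, ?_⟩
  · have h := rot1.conj (we wI)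
    rw [show we wI • v5 = v11 from act 5 11 (by norm_num) w3,
      show we wI • v11 = v5 from act 11 5 (by norm_num) w4] at h
    exact h.unique rot1.inv
  · have h := rot2.conj (we wI)
    rw [show we wI • v10 = v10 from act 10 10 (by norm_num) w5,
      show we wI • v7 = SuzT.vec 13 from act 7 13 (by norm_num) w6] at h
    have e : SuzT.vec 13 = v10 + v7 := by decide +kernel
    rw [e] at h
    have h' := rot2.shift.shift.inv
    rw [show v7 + (v10 + v7) = v10 by decide +kernel] at h'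
    exact h.unique h'

theorem wS_ok : ((List.range 16).all fun v => Nat.beq v 0 || Nat.beq (qc v) 1 || wS.any fun e => Nat.beq e.1 v &&
    wlt e.2 && Nat.beq (app (wp e.2) 1) v && Nat.beq (app (wp e.2) 16) 16 && Nat.beq (app (wp e.2) 32) 32) = true := by
  decide +kernel

theorem move_e0 {v : V} (hv : InF v) (h0 : v ≠ 0) (hq : qm v = 0) : ∃ c : Ga, Commute c g0 ∧ c • e0 = v := by
  have h := List.all_eq_true.1 wS_ok (enc v) (List.mem_range.2 hv)
  simp only [Bool.or_eq_true, List.any_eq_true, Bool.and_eq_true] at h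
  rcases h with (h | h) | ⟨e, -, ⟨⟨⟨-, hw⟩, h1⟩, h16⟩, h32⟩
  · exact absurd (enc_injective ((Nat.eq_of_beq_eq_true h).trans enc_zero.symm)) h0
  · have := qm_eq_zero.1 hq
    have := Nat.eq_of_beq_eq_true h
    omega
  · refine ⟨we e.2, comm_of_fix (Prod.ext ?_ ?_), ?_⟩
    · show we e.2 • SuzT.vec 16 = SuzT.vec 16
      rw [we_smul hw (by norm_num), Nat.eq_of_beq_eq_true h16]
    · show we e.2 • SuzT.vec 32 = SuzT.vec 32
      rw [we_smul hw (by norm_num), Nat.eq_of_beq_eq_true h32]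
    · rw [e0, we_smul hw (by norm_num), Nat.eq_of_beq_eq_true h1, vec_enc]

theorem wR_ok : (decide ((idL :: wR.map wp).Nodup) && wR.all fun w => wlt w && Nat.beq (app (wp w) 1) 1 &&
    Nat.beq (app (wp w) 16) 16 && Nat.beq (app (wp w) 32) 32 && (List.range 64).all fun v => Nat.beq (pc 1 v) 1 ||
      Nat.beq (app (wp w) v) v || Nat.beq (app (wp w) v) (Nat.xor v 1)) = true := by decide +kernel

theorem rad_three : ∃ s : Finset Ga, s.card = 3 ∧ ∀ r ∈ s, RadAt r ∧ Commute r g0 := by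
  classical
  have h := wR_ok
  simp only [Bool.and_eq_true, decide_eq_true_eq, List.all_eq_true, Bool.or_eq_true, List.mem_range] at h
  obtain ⟨hnd, hall⟩ := h
  refine ⟨((1 : Ga) :: wR.map we).toFinset, ?_, fun r hr => ?_⟩
  · rw [List.toFinset_card_of_nodup]
    · rfl
    refine List.Nodup.of_map (fun g : Ga => cols (g : OG)) ?_
    rw [List.map_cons, List.map_map]
    have e : wR.map ((fun g : Ga => cols (g : OG)) ∘ we) = wR.map wp :=
      List.map_congr_left fun w hw => ((we_cols (hall w hw).1.1.1.1).eq_cols).symm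
    rw [e, show cols ((1 : Ga) : OG) = idL from IsCols.one.eq_cols.symm]
    exact hnd
  · rcases List.mem_cons.1 (List.mem_toFinset.1 hr) with rfl | hr
    · exact ⟨⟨one_smul _ _, fun v _ => Or.inl (one_smul _ _)⟩, Commute.one_left _⟩
    obtain ⟨w, hw, rfl⟩ := List.mem_map.1 hr
    obtain ⟨⟨⟨⟨hw0, h1⟩, h16⟩, h32⟩, hv⟩ := hall w hw
    refine ⟨⟨?_, fun v hv' => ?_⟩, comm_of_fix (Prod.ext ?_ ?_)⟩
    · rw [e0, we_smul hw0 (by norm_num), Nat.eq_of_beq_eq_true h1]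
    · rcases hv (enc v) (enc_lt v) with (h | h) | h
      · have := pol_eq_zero.1 hv'
        rw [e0_facts.2.2, Nat.eq_of_beq_eq_true h] at this
        omega
      · exact Or.inl (enc_injective (by rw [enc_smul (we_cols hw0), Nat.eq_of_beq_eq_true h]))
      · refine Or.inr (enc_injective ?_)
        rw [enc_smul (we_cols hw0), Nat.eq_of_beq_eq_true h, enc_add, e0_facts.2.2]
    · show we w • SuzT.vec 16 = SuzT.vec 16
      rw [we_smul hw0 (by norm_num), Nat.eq_of_beq_eq_true h16]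
    · show we w • SuzT.vec 32 = SuzT.vec 32
      rw [we_smul hw0 (by norm_num), Nat.eq_of_beq_eq_true h32]

end Cfsg.Agent.Spor.SuzT.Three
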