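import Cfsg.Agent.Lib.Spor.SuzY.Local
import Cfsg.Agent.Lib.Lie.HuppertRegular

/-!
Groups of Suzuki sporadic type: the two subgroups isomorphic to SL(2,3) centralising an element of order three of
the first kind and the central involution.
-/

set_option autoImplicit false
set_option maxRecDepth 100000
set_option linter.unusedSectionVars false

namespace Cfsg.Agent.Spor.SuzT.Three

universe u

variable {G : Type u} [Group G] [Finite G] {z : G} {Q : Subgroup G} (K : Ctx z Q)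

/-- the elements over an additively closed set of vectors -/
def Ctx.Pre (S : Set V) (h0 : (0 : V) ∈ S) (hadd : ∀ a ∈ S, ∀ b ∈ S, a + b ∈ S) : Subgroup G where
  carrier := {a | a ∈ Q ∧ K.F.vec a ∈ S}
  one_mem' := ⟨one_mem Q, by rw [vec_one K.F K.h]; exact h0⟩
  mul_mem' := fun {a b} ha hb => ⟨mul_mem ha.1 hb.1, by rw [K.F.vec_mul a ha.1 b hb.1]; exact hadd _ ha.2 _ hb.2⟩
  inv_mem' := fun {a} ha => ⟨inv_mem ha.1, by rw [vec_inv K.F K.h ha.1]; exact ha.2⟩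

theorem Ctx.card_Pre (S : Set V) (h0 : (0 : V) ∈ S) (hadd : ∀ a ∈ S, ∀ b ∈ S, a + b ∈ S) :
    Nat.card (K.Pre S h0 hadd) = 2 * S.ncard := by
  let φ : K.Pre S h0 hadd →* Multiplicative V := MonoidHom.mk' (fun a => Multiplicative.ofAdd (K.F.vec a))
    fun a b => by rw [← ofAdd_add, ← K.F.vec_mul _ a.2.1 _ b.2.1]; rfl
  have hker : Nat.card φ.ker = 2 := by
    have hz : z ∈ K.Pre S h0 hadd := ⟨zQ K.h, by rw [(K.F.vec_zero z (zQ K.h)).2 (Or.inr rfl)]; exact h0⟩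
    let f : Bool → φ.ker := fun b => bif b then ⟨⟨z, hz⟩, MonoidHom.mem_ker.2
      (congrArg Multiplicative.ofAdd ((K.F.vec_zero z (zQ K.h)).2 (Or.inr rfl)))⟩ else 1
    have hf : Function.Bijective f := by
      refine ⟨fun a b e => ?_, fun a => ?_⟩
      · have e' : ((f a : K.Pre S h0 hadd) : G) = (f b : K.Pre S h0 hadd) := by rw [e]
        cases a <;> cases b
        · rfl
        · exact absurd (show z = 1 from e'.symm) (z_ne K.h)
        · exact absurd (show z = 1 from e') (z_ne K.h)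
        · rfl
      · rcases (K.F.vec_zero _ (a : K.Pre S h0 hadd).2.1).1
          (Multiplicative.ofAdd.injective (MonoidHom.mem_ker.1 a.2)) with e | e
        · exact ⟨false, Subtype.ext (Subtype.ext e.symm)⟩
        · exact ⟨true, Subtype.ext (Subtype.ext e.symm)⟩
    rw [← Nat.card_eq_of_bijective f hf, Nat.card_eq_fintype_card, Fintype.card_bool]
  have hrange : (φ.range : Set (Multiplicative V)) = Multiplicative.ofAdd '' S := by
    ext v
    constructor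
    · rintro ⟨a, rfl⟩; exact ⟨_, a.2.2, rfl⟩
    · rintro ⟨s, hs, rfl⟩
      obtain ⟨a, ha, rfl⟩ := K.F.vec_surj s
      exact ⟨⟨a, ha, hs⟩, rfl⟩
  have hr : Nat.card φ.range = S.ncard := by
    show Nat.card (φ.range : Set (Multiplicative V)) = _
    rw [hrange, Nat.card_image_of_injective Multiplicative.ofAdd.injective, Nat.card_coe_set_eq]
  rw [Subgroup.card_eq_card_quotient_mul_card_subgroup φ.ker,
    Nat.card_congr (QuotientGroup.quotientKerEquivRange φ).toEquiv, hr, hker, mul_comm]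

/-- the part of the extraspecial subgroup centralised by `y` -/
def Ctx.CQ : Subgroup G where
  carrier := {a | a ∈ Q ∧ Commute a K.y}
  one_mem' := ⟨one_mem Q, Commute.one_left _⟩
  mul_mem' := fun ha hb => ⟨mul_mem ha.1 hb.1, ha.2.mul_left hb.2⟩
  inv_mem' := fun ha => ⟨inv_mem ha.1, ha.2.inv_left⟩

theorem Ctx.card_CQ : Nat.card K.CQ = 32 := by
  have e : K.CQ = K.Pre {v | InF v} (by show InF 0; unfold InF; decide +kernel) (by
      intro a ha b hb
      show InF (a + b)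
      rw [← fixed_iff] at *
      rw [smul_add', (fixed_iff a).2 ha, (fixed_iff b).2 hb]) := by
    ext a
    exact ⟨fun h => ⟨h.1, (K.comm_iff h.1).1 h.2⟩, fun h => ⟨h.1, (K.comm_iff h.1).2 h.2⟩⟩
  rw [e, K.card_Pre]
  have hc : ({v : V | InF v}).ncard = 16 := by
    have hs : {v : V | InF v} = SuzT.vec '' (Set.Iio 16) := by
      ext v
      exact ⟨fun hv => ⟨enc v, hv, vec_enc v⟩, fun ⟨n, hn, e⟩ => by
        show enc v < 16
        rw [← e, enc_vec n (lt_trans (Set.mem_Iio.1 hn) (by norm_num))]; exact hn⟩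
    rw [hs, Set.ncard_image_of_injOn, ← Finset.coe_Iio, Set.ncard_coe_finset]
    · rfl
    · intro a ha b hb e
      have ha' : a < 64 := lt_trans (Set.mem_Iio.1 ha) (by norm_num)
      have hb' : b < 64 := lt_trans (Set.mem_Iio.1 hb) (by norm_num)
      rw [← enc_vec a ha', ← enc_vec b hb', e]
  rw [hc]

/-- a rotation inside the fixed space with a lift of order three centralising `y` -/
structure Pl (K : Ctx z Q) where
  a : V
  b : V
  t : Ga
  T : G
  ha : InF a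
  hb : InF b
  rot : Rot3 t a b
  hTz : Commute T z
  T3 : T ^ 3 = 1
  hTy : Commute T K.y
  piT : K.F.π (cC hTz) = t

variable {K}

theorem Pl.add_mem (P : Pl K) : ∀ x ∈ ({0, P.a, P.b, P.a + P.b} : Set V), ∀ y ∈ ({0, P.a, P.b, P.a + P.b} : Set V),
    x + y ∈ ({0, P.a, P.b, P.a + P.b} : Set V) := by
  classical
  intro x hx y hy
  simpa using four_add P.a P.b x (by simpa using hx) y (by simpa using hy)

/-- the quaternion group -/
def Pl.R (P : Pl K) : Subgroup G := K.Pre {0, P.a, P.b, P.a + P.b} (Set.mem_insert _ _) P.add_mem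

theorem Pl.ne (P : Pl K) : P.a ≠ 0 ∧ P.b ≠ 0 ∧ P.a ≠ P.b ∧ P.a + P.b ≠ 0 := by
  have h0 : qm (0 : V) = 0 := by decide +kernel
  refine ⟨fun e => ?_, fun e => ?_, fun e => ?_, fun e => ?_⟩
  · have := P.rot.pair.1; rw [e, h0] at this; exact zero_ne_one this
  · have := P.rot.pair.2.1; rw [e, h0] at this; exact zero_ne_one this
  · have := P.rot.pair.2.2; rw [e, pol_self] at this; exact zero_ne_one this
  · have := P.rot.pair.2.2
    rw [eq_neg_of_add_eq_zero_left e, ZModModule.neg_eq_self, pol_self] at this; exact zero_ne_one this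

theorem Pl.card_R (P : Pl K) : Nat.card P.R = 8 := by
  classical
  rw [Pl.R, K.card_Pre]
  have h := four_card P.ne.1 P.ne.2.1 P.ne.2.2.1
  rw [← Set.ncard_coe_finset] at h
  simpa using congrArg (2 * ·) h

theorem Pl.qm_R (P : Pl K) {v : V} (hv : v ∈ ({0, P.a, P.b, P.a + P.b} : Set V)) : qm v = 0 ↔ v = 0 := by
  have h1 := P.rot.pair.1
  have h2 := P.rot.pair.2.1
  have h12 : qm (P.a + P.b) = 1 := by rw [← P.rot.snd, smul_qm, h2]
  simp only [Set.mem_insert_iff, Set.mem_singleton_iff] at hv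
  rcases hv with e | e | e | e <;> rw [e]
  · simp [show qm (0 : V) = 0 by decide +kernel]
  · simp [h1, P.ne.1]
  · simp [h2, P.ne.2.1]
  · simp [h12, P.ne.2.2.2]

theorem Pl.quat (P : Pl K) : Nonempty (P.R ≃* QuaternionGroup 2) := by
  haveI : Fact (Nat.Prime 2) := ⟨Nat.prime_two⟩
  have hP : IsPGroup 2 P.R := IsPGroup.of_card (n := 3) (by rw [P.card_R]; norm_num)
  have key : ∀ a : P.R, a ^ 2 = 1 → (a : G) = 1 ∨ (a : G) = z := fun a ha =>
    (K.F.vec_zero _ a.2.1).1 ((P.qm_R a.2.2).1 ((K.F.sq_iff _ a.2.1).1 (by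
      rw [← pow_two]; exact congrArg Subtype.val ha)))
  have hun : Cfsg.Agent.Solv.UniqueOrderP 2 P.R := by
    intro x y hx hy hy1
    rcases key x hx with e | e
    · rw [show x = 1 from Subtype.ext e]; exact one_mem _
    · rcases key y hy with e' | e'
      · exact absurd (Subtype.ext e') hy1
      · rw [show x = y from Subtype.ext (e.trans e'.symm)]; exact Subgroup.mem_zpowers y
  have hncyc : ¬ IsCyclic P.R := by
    intro hc
    obtain ⟨f, hf⟩ := hc.exists_generator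
    have h8 : orderOf f = 8 := by rw [orderOf_eq_card_of_forall_mem_zpowers hf, P.card_R]
    have h4 : f ^ 4 = 1 := by
      refine Subtype.ext ?_
      rw [SubmonoidClass.coe_pow, show (4 : ℕ) = 2 * 2 from rfl, pow_mul, pow_two, pow_two]
      rcases K.F.sq_or _ f.2.1 with e | e <;> rw [e]
      · exact one_mul 1
      · exact zz K.h
    have := orderOf_dvd_of_pow_eq_one h4
    rw [h8] at this
    norm_num at this
  obtain ⟨-, n, ⟨e⟩⟩ := (Cfsg.Agent.Solv.cyclic_or_quaternion hP hun).resolve_left hncyc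
  have hn : n = 1 := by
    haveI : NeZero (2 ^ n) := ⟨pow_ne_zero n two_ne_zero⟩
    have h := Nat.card_congr e.toEquiv
    rw [P.card_R, Nat.card_eq_fintype_card, QuaternionGroup.card] at h
    have : 2 ^ n = 2 ^ 1 := by rw [pow_one]; omega
    exact Nat.pow_right_injective le_rfl this
  subst hn
  exact ⟨e⟩

theorem Pl.conj_R (P : Pl K) {r : G} (hr : r ∈ P.R) : P.T * r * P.T⁻¹ ∈ P.R := by
  refine ⟨K.h.norm P.T P.hTz r hr.1, ?_⟩
  have e : K.F.vec (P.T * r * P.T⁻¹) = P.t • K.F.vec r := by rw [← P.piT]; exact K.F.vec_conj (cC P.hTz) r hr.1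
  rw [e]
  have hv := hr.2
  simp only [Set.mem_insert_iff, Set.mem_singleton_iff] at hv ⊢
  rcases hv with e | e | e | e <;> rw [e]
  · exact Or.inl (smul_zero' _)
  · exact Or.inr (Or.inr (Or.inl P.rot.fst))
  · exact Or.inr (Or.inr (Or.inr P.rot.snd))
  · refine Or.inr (Or.inl ?_)
    rw [smul_add', P.rot.fst, P.rot.snd, add_comm P.a P.b, ← add_assoc, ZModModule.add_self, zero_add]

theorem Pl.pow_conj (P : Pl K) (n : ℕ) {r : G} (hr : r ∈ P.R) : P.T ^ n * r * (P.T ^ n)⁻¹ ∈ P.R := by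
  induction n with
  | zero => simpa using hr
  | succ n ih =>
    rw [show P.T ^ (n + 1) * r * (P.T ^ (n + 1))⁻¹ = P.T * (P.T ^ n * r * (P.T ^ n)⁻¹) * P.T⁻¹ by
      rw [pow_succ']; group]
    exact P.conj_R ih

/-- the subgroup isomorphic to SL(2,3) -/
def Pl.S (P : Pl K) : Subgroup G where
  carrier := {g | ∃ r ∈ P.R, ∃ i : ℕ, g = r * P.T ^ i}
  one_mem' := ⟨1, one_mem _, 0, by simp⟩
  mul_mem' := by
    rintro _ _ ⟨r, hr, i, rfl⟩ ⟨r', hr', j, rfl⟩
    exact ⟨r * (P.T ^ i * r' * (P.T ^ i)⁻¹), mul_mem hr (P.pow_conj i hr'), i + j, by rw [pow_add]; group⟩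
  inv_mem' := by
    rintro _ ⟨r, hr, i, rfl⟩
    refine ⟨P.T ^ (2 * i) * r⁻¹ * (P.T ^ (2 * i))⁻¹, P.pow_conj _ (inv_mem hr), 2 * i, ?_⟩
    have e : (P.T ^ i)⁻¹ = P.T ^ (2 * i) := inv_eq_of_mul_eq_one_right (by
      rw [← pow_add, show i + 2 * i = 3 * i by ring, pow_mul, P.T3, one_pow])
    rw [mul_inv_rev, e]; group

theorem Pl.T_mem (P : Pl K) : P.T ∈ P.S := ⟨1, one_mem _, 1, by simp⟩

theorem Pl.R_le (P : Pl K) : P.R ≤ P.S := fun r hr => ⟨r, hr, 0, by simp⟩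

theorem Pl.S_comm (P : Pl K) {g : G} (hg : g ∈ P.S) : Commute g z ∧ Commute g K.y := by
  obtain ⟨r, hr, i, rfl⟩ := hg
  refine ⟨(Qz K.h hr.1).mul_left (P.hTz.pow_left i), Commute.mul_left ?_ (P.hTy.pow_left i)⟩
  refine (K.comm_iff hr.1).2 ?_
  have := hr.2
  simp only [Set.mem_insert_iff, Set.mem_singleton_iff] at this
  rcases this with e | e | e | e <;> rw [e]
  · unfold InF; decide +kernel
  · exact P.ha
  · exact P.hb
  · rw [← fixed_iff, smul_add', (fixed_iff _).2 P.ha, (fixed_iff _).2 P.hb]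

theorem Pl.pi_S (P : Pl K) {r : G} (hr : r ∈ P.R) (i : ℕ) (h : Commute (r * P.T ^ i) z) :
    K.F.π (cC h) = P.t ^ i := by
  rw [pi_congr K.F h ((Qz K.h hr.1).mul_left (P.hTz.pow_left i)) rfl, π_mul K.F (Qz K.h hr.1) (P.hTz.pow_left i),
    π_Q K.F K.h hr.1, one_mul, pi_pow K.F P.hTz, P.piT]

theorem Pl.card_S (P : Pl K) : Nat.card P.S = 24 := by
  let f : P.R × Fin 3 → P.S := fun p => ⟨p.1 * P.T ^ (p.2 : ℕ), p.1, p.1.2, p.2, rfl⟩
  have hf : Function.Bijective f := by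
    refine ⟨fun p q e => ?_, fun g => ?_⟩
    · have e' : (p.1 : G) * P.T ^ (p.2 : ℕ) = q.1 * P.T ^ (q.2 : ℕ) := congrArg Subtype.val e
      have h1 := (P.S_comm (f p).2).1
      have h2 := (P.S_comm (f q).2).1
      have hπ : P.t ^ (p.2 : ℕ) = P.t ^ (q.2 : ℕ) := by
        rw [← P.pi_S p.1.2 _ h1, ← P.pi_S q.1.2 _ h2]; exact pi_congr K.F h1 h2 e'
      have hi : p.2 = q.2 := Fin.ext (pow_inj P.rot p.2.2 q.2.2 (by rw [hπ]))
      rw [hi] at e'
      exact Prod.ext (Subtype.ext (mul_right_cancel e')) hi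
    · obtain ⟨r, hr, i, e⟩ := g.2
      refine ⟨(⟨r, hr⟩, ⟨i % 3, Nat.mod_lt _ (by norm_num)⟩), Subtype.ext ?_⟩
      show r * P.T ^ (i % 3) = g
      rw [e, ← Nat.div_add_mod i 3, pow_add, pow_mul, P.T3, one_pow, one_mul, Nat.div_add_mod]
  rw [← Nat.card_eq_of_bijective f hf, Nat.card_prod, P.card_R, Nat.card_fin]

theorem Pl.R_vecs (P : Pl K) : ∃ r ∈ P.R, K.F.vec r = P.a ∧ ∃ s ∈ P.R, K.F.vec s = P.b := by
  obtain ⟨r, hr, e⟩ := K.F.vec_surj P.a
  obtain ⟨s, hs, e'⟩ := K.F.vec_surj P.b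
  exact ⟨r, ⟨hr, by rw [e]; simp⟩, e, s, ⟨hs, by rw [e']; simp⟩, e'⟩

theorem Pl.iso (P : Pl K) : Nonempty (P.S ≃* Matrix.SpecialLinearGroup (Fin 2) (ZMod 3)) := by
  obtain ⟨e⟩ := P.quat
  let e' := e.symm.trans (Subgroup.subgroupOfEquivOfLe P.R_le).symm
  refine Cfsg.Agent.Lie.HuppertRegular.sl23_of_order P.card_S e' (g := ⟨P.T, P.T_mem⟩) ?_
    (Subtype.ext (by simpa using P.T3)) fun hc => ?_
  · rw [Subgroup.mem_normalizer_iff]
    intro n
    refine ⟨fun hn => P.conj_R hn, fun hn => ?_⟩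
    have h2 := P.pow_conj 2 (show P.T * (n : G) * P.T⁻¹ ∈ P.R from hn)
    rwa [show P.T ^ 2 * (P.T * (n : G) * P.T⁻¹) * (P.T ^ 2)⁻¹ = P.T ^ 3 * n * (P.T ^ 3)⁻¹ by
      simp only [pow_succ, pow_zero, one_mul]; group, P.T3, one_mul, inv_one, mul_one] at h2
  · obtain ⟨r, hr, hv, -⟩ := P.R_vecs
    have h1 := congrArg Subtype.val (Subgroup.mem_centralizer_iff.1 hc ⟨r, P.R_le hr⟩ hr)
    have h2 := fix_of_comm K.F K.h P.hTz hr.1 (show P.T * r = r * P.T from h1.symm)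
    rw [P.piT, hv, P.rot.fst] at h2
    exact P.ne.2.2.1 h2.symm

/-- the subgroup is generated by its elements of order three -/
theorem Pl.S_le (P : Pl K) {M : Subgroup G} (h1 : ∀ g ∈ P.S, g ^ 3 = 1 → g ∈ M) : P.S ≤ M := by
  have hT : P.T ∈ M := h1 _ P.T_mem P.T3
  obtain ⟨r, hr, hv, s, hs, hv'⟩ := P.R_vecs
  have hc : ∀ q ∈ P.R, q * (P.T * q⁻¹ * P.T⁻¹) ∈ M := by
    intro q hq
    have h3 : q * P.T * q⁻¹ ∈ M := h1 _ (mul_mem (mul_mem (P.R_le hq) P.T_mem) (inv_mem (P.R_le hq)))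
      (by rw [conj_pow, P.T3]; group)
    have := mul_mem h3 (inv_mem hT)
    rwa [show q * P.T * q⁻¹ * P.T⁻¹ = q * (P.T * q⁻¹ * P.T⁻¹) by group] at this
  have hvec : ∀ q ∈ P.R, K.F.vec (q * (P.T * q⁻¹ * P.T⁻¹)) = K.F.vec q + P.t • K.F.vec q := by
    intro q hq
    have h' := K.h.norm _ P.hTz _ (inv_mem hq.1)
    have e : K.F.vec (P.T * q⁻¹ * P.T⁻¹) = P.t • K.F.vec q := by
      rw [← P.piT, ← vec_inv K.F K.h hq.1]
      exact K.F.vec_conj (cC P.hTz) _ (inv_mem hq.1)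
    rw [K.F.vec_mul q hq.1 _ h', e]
  obtain ⟨c, hc1, hc2⟩ : ∃ c, c = r * (P.T * r⁻¹ * P.T⁻¹) ∧ c ∈ M := ⟨_, rfl, hc r hr⟩
  obtain ⟨d, hd1, hd2⟩ : ∃ d, d = s * (P.T * s⁻¹ * P.T⁻¹) ∧ d ∈ M := ⟨_, rfl, hc s hs⟩
  have hcR : c ∈ P.R := hc1 ▸ mul_mem hr (P.conj_R (inv_mem hr))
  have hdR : d ∈ P.R := hd1 ▸ mul_mem hs (P.conj_R (inv_mem hs))
  have hcv : K.F.vec c = P.a + P.b := by rw [hc1, hvec r hr, hv, P.rot.fst]
  have hdv : K.F.vec d = P.a := by
    rw [hd1, hvec s hs, hv', P.rot.snd, add_comm P.a P.b, ← add_assoc, ZModModule.add_self, zero_add]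
  have hz : z ∈ M := by
    rcases K.F.sq_or d hdR.1 with e | e
    · have h0 := (K.F.sq_iff d hdR.1).1 e
      rw [hdv, P.rot.pair.1] at h0
      exact absurd h0 one_ne_zero
    · rw [← e]; exact mul_mem hd2 hd2
  have hR : P.R ≤ M := by
    intro q hq
    have : ∃ m ∈ M, m ∈ Q ∧ K.F.vec m = K.F.vec q := by
      have hvq := hq.2
      simp only [Set.mem_insert_iff, Set.mem_singleton_iff] at hvq
      rcases hvq with e | e | e | e <;> rw [e]
      · exact ⟨1, one_mem M, one_mem Q, vec_one K.F K.h⟩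
      · exact ⟨d, hd2, hdR.1, hdv⟩
      · refine ⟨c * d, mul_mem hc2 hd2, mul_mem hcR.1 hdR.1, ?_⟩
        rw [K.F.vec_mul _ hcR.1 _ hdR.1, hcv, hdv, add_comm P.a P.b, add_assoc, ZModModule.add_self, add_zero]
      · exact ⟨c, hc2, hcR.1, hcv⟩
    obtain ⟨m, hm, hmQ, hmv⟩ := this
    rcases vec_eq K.F hq.1 hmQ K.h hmv.symm with e | e <;> rw [e]
    · exact hm
    · exact mul_mem hm hz
  rintro _ ⟨q, hq, i, rfl⟩
  exact mul_mem (hR hq) (pow_mem hT i)

/-- two planes orthogonal to each other -/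
structure Orth (P P' : Pl K) : Prop where
  fixa : P.t • P'.a = P'.a
  fixb : P.t • P'.b = P'.b
  fixa' : P'.t • P.a = P.a
  fixb' : P'.t • P.b = P.b
  aa : pol P.a P'.a = 0
  ab : pol P.a P'.b = 0
  ba : pol P.b P'.a = 0
  bb : pol P.b P'.b = 0
  comm : Commute P.t P'.t
  span : ∀ v, InF v → ∃ p ∈ ({0, P.a, P.b, P.a + P.b} : Set V), ∃ q ∈ ({0, P'.a, P'.b, P'.a + P'.b} : Set V),
    v = p + q

theorem Orth.R_comm {P P' : Pl K} (o : Orth P P') {r r' : G} (hr : r ∈ P.R) (hr' : r' ∈ P'.R) : Commute r r' := by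
  refine (K.F.comm_iff r hr.1 r' hr'.1).2 ?_
  have e1 := hr.2; have e2 := hr'.2
  simp only [Set.mem_insert_iff, Set.mem_singleton_iff] at e1 e2
  have hz : ∀ v : V, pol 0 v = 0 ∧ pol v 0 = 0 := by decide +kernel
  have ha : ∀ u v w : V, pol (u + v) w = pol u w + pol v w := fun u v w => by
    simp only [pol_polar, QuadraticMap.polar_add_left]
  rcases e1 with e1 | e1 | e1 | e1 <;> rcases e2 with e2 | e2 | e2 | e2 <;> rw [e1, e2] <;>
    simp only [ha, pol_addr, (hz _).1, (hz _).2, o.aa, o.ab, o.ba, o.bb, add_zero]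

theorem T_comm_R {P P' : Pl K} (h1 : P.t • P'.a = P'.a) (h2 : P.t • P'.b = P'.b) {r : G} (hr : r ∈ P'.R) :
    Commute P.T r := by
  refine comm_Q K.F K.h P.hTz P.T3 hr.1 ?_
  have e := hr.2
  simp only [Set.mem_insert_iff, Set.mem_singleton_iff] at e
  rw [P.piT]
  rcases e with e | e | e | e <;> rw [e]
  · exact smul_zero' _
  · exact h1
  · exact h2
  · rw [smul_add', h1, h2]

theorem Orth.decomp {P P' : Pl K} (o : Orth P P') {a : G} (ha : a ∈ Q) (hay : Commute a K.y) :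
    ∃ r ∈ P.R, ∃ r' ∈ P'.R, a = r * r' := by
  obtain ⟨p, hp, q, hq, e⟩ := o.span _ ((K.comm_iff ha).1 hay)
  obtain ⟨r, hr, hrv⟩ := K.F.vec_surj p
  obtain ⟨r', hr', hrv'⟩ := K.F.vec_surj q
  have hrR : r ∈ P.R := ⟨hr, by rw [hrv]; exact hp⟩
  have hrR' : r' ∈ P'.R := ⟨hr', by rw [hrv']; exact hq⟩
  rcases vec_eq K.F ha (mul_mem hr hr') K.h (by rw [K.F.vec_mul r hr r' hr', hrv, hrv', e]) with e | e
  · exact ⟨r, hrR, r', hrR', e⟩
  · refine ⟨r, hrR, r' * z, mul_mem hrR' ⟨zQ K.h, ?_⟩, by rw [e, mul_assoc]⟩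
    rw [(K.F.vec_zero z (zQ K.h)).2 (Or.inr rfl)]; exact Set.mem_insert _ _

set_option synthInstance.maxSize 4000 in
theorem Orth.T_comm {P P' : Pl K} (o : Orth P P') : Commute P.T P'.T := by
  set q := P'.T * P.T * P'.T⁻¹ * P.T⁻¹ with hq
  have hd : Commute (P'.T * P.T * P'.T⁻¹) z := (P'.hTz.mul_left P.hTz).mul_left P'.hTz.inv_left
  have hqQ : q ∈ Q := (K.F.π_ker (cC hd * (cC P.hTz)⁻¹)).1 (by
    rw [map_mul, map_inv, pi_conj K.F P'.hTz P.hTz, P.piT, P'.piT, ← o.comm.eq, mul_inv_cancel_right, mul_inv_cancel])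
  have hqy : Commute q K.y := ((P'.hTy.mul_left P.hTy).mul_left P'.hTy.inv_left).mul_left P.hTy.inv_left
  have hcomm : ∀ a ∈ Q, Commute a K.y → Commute q a := by
    intro a ha hay
    obtain ⟨r, hr, r', hr', rfl⟩ := o.decomp ha hay
    have c1 : ∀ {x : G}, x ∈ P'.R → Commute P.T x := fun {x} hx => T_comm_R o.fixa o.fixb hx
    have c2 : ∀ {x : G}, x ∈ P.R → Commute P'.T x := fun {x} hx => T_comm_R o.fixa' o.fixb' hx
    refine Commute.mul_right ?_ ?_
    · have h1 : P.T⁻¹ * r * P.T ∈ P.R := by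
        have h' := P.pow_conj 2 hr
        have e : (P.T ^ 2)⁻¹ = P.T := inv_eq_of_mul_eq_one_right (by rw [← pow_succ, P.T3])
        rwa [e, show P.T ^ 2 = P.T⁻¹ from (inv_eq_of_mul_eq_one_left (by rw [← pow_succ, P.T3])).symm] at h'
      refine mul_inv_eq_iff_eq_mul.1 ?_
      calc q * r * q⁻¹ = P'.T * (P.T * (P'.T⁻¹ * (P.T⁻¹ * r * P.T) * P'.T) * P.T⁻¹) * P'.T⁻¹ := by
            rw [hq]; group
        _ = r := by
            rw [(c2 h1).inv_left.eq, inv_mul_cancel_right,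
              show P.T * (P.T⁻¹ * r * P.T) * P.T⁻¹ = r by group, (c2 hr).eq, mul_inv_cancel_right]
    · have h1 : P'.T⁻¹ * r' * P'.T ∈ P'.R := by
        have h' := P'.pow_conj 2 hr'
        have e : (P'.T ^ 2)⁻¹ = P'.T := inv_eq_of_mul_eq_one_right (by rw [← pow_succ, P'.T3])
        rwa [e, show P'.T ^ 2 = P'.T⁻¹ from (inv_eq_of_mul_eq_one_left (by rw [← pow_succ, P'.T3])).symm] at h'
      refine mul_inv_eq_iff_eq_mul.1 ?_
      calc q * r' * q⁻¹ = P'.T * (P.T * (P'.T⁻¹ * (P.T⁻¹ * r' * P.T) * P'.T) * P.T⁻¹) * P'.T⁻¹ := by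
            rw [hq]; group
        _ = r' := by
            rw [(c1 hr').inv_left.eq, inv_mul_cancel_right, (c1 h1).eq, mul_inv_cancel_right]; group
  have h0 : K.F.vec q = 0 := by
    have key : ∀ v : V, InF v → (∀ w : V, InF w → pol v w = 0) → v = 0 := by unfold InF; decide +kernel
    refine key _ ((K.comm_iff hqQ).1 hqy) fun w hw => ?_
    obtain ⟨a, ha, rfl⟩ := K.F.vec_surj w
    exact (K.F.comm_iff q hqQ a ha).1 (hcomm a ha ((K.comm_iff ha).2 hw))
  have e : P'.T * P.T * P'.T⁻¹ = q * P.T := by rw [hq]; group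
  rcases (K.F.vec_zero q hqQ).1 h0 with h | h <;> rw [h] at e
  · rw [one_mul] at e
    exact (mul_inv_eq_iff_eq_mul.1 e).symm
  · exfalso
    have h3 : (z * P.T) ^ 3 = 1 := by rw [← e, conj_pow, P.T3]; group
    rw [P.hTz.symm.mul_pow, P.T3, mul_one, pow_succ, pow_two, zz K.h, one_mul] at h3
    exact z_ne K.h h3

theorem Orth.S_comm {P P' : Pl K} (o : Orth P P') {g g' : G} (hg : g ∈ P.S) (hg' : g' ∈ P'.S) : Commute g g' := by
  obtain ⟨r, hr, i, rfl⟩ := hg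
  obtain ⟨r', hr', j, rfl⟩ := hg'
  exact ((o.R_comm hr hr').mul_right (((T_comm_R o.fixa' o.fixb' hr).pow_left j).symm)).mul_left
    (((T_comm_R o.fixa o.fixb hr').pow_left i).mul_right (o.T_comm.pow_pow i j))

variable (K)

theorem Ctx.exists_planes : ∃ P P' : Pl K, P.t = t1 ∧ P'.t = t2 ∧ Orth P P' := by
  obtain ⟨T, hT, T3, hTy, hp⟩ := K.exists_liftY3 comm_g_t1.symm rot1.cube
  obtain ⟨T', hT', T3', hTy', hp'⟩ := K.exists_liftY3 comm_g_t2.symm rot2.cube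
  obtain ⟨f5, f11, f10, f7, -⟩ := inF_vals
  refine ⟨⟨v5, v11, t1, T, f5, f11, rot1, hT, T3, hTy, hp⟩, ⟨v10, v7, t2, T', f10, f7, rot2, hT', T3', hTy', hp'⟩,
    rfl, rfl, ?_⟩
  obtain ⟨-, -, -, -, -, -, -, -, -, -, -, -, -, -, -, -, o17, o18, o19, o20, -, -, -, -⟩ := orth
  refine ⟨t1_fix.2.2.1, t1_fix.2.2.2, t2_fix.2.2.1, t2_fix.2.2.2, o17, o18, o19, o20, comm_t1_t2, ?_⟩
  show ∀ v, InF v → _
  intro v hv
  have key : ∀ v : V, InF v → ∃ b c : Fin 4, v = [0, v5, v11, v5 + v11][b] + [0, v10, v7, v10 + v7][c] := by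
    unfold InF; decide +kernel
  obtain ⟨b, c, e⟩ := key v hv
  refine ⟨_, ?_, _, ?_, e⟩
  · fin_cases b <;> simp
  · fin_cases c <;> simp

end Cfsg.Agent.Spor.SuzT.Three
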