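import Cfsg.Agent.Lib.Spor.SuzY.Cent
import Cfsg.Agent.Lib.Spor.SuzTypeLift

/-!
Groups of Suzuki sporadic type: elements of order three in the centraliser of the central involution that fix a
four dimensional space on the extraspecial subgroup.
-/

set_option autoImplicit false
set_option maxRecDepth 100000
set_option linter.unusedSectionVars false

namespace Cfsg.Agent.Spor.SuzT.Three

theorem four_add (a b : V) : ∀ x ∈ ({0, a, b, a + b} : Finset V), ∀ y ∈ ({0, a, b, a + b} : Finset V),
    x + y ∈ ({0, a, b, a + b} : Finset V) := by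
  have e1 : a + (a + b) = b := by rw [← add_assoc, ZModModule.add_self, zero_add]
  have e2 : b + (a + b) = a := by rw [add_comm a b, ← add_assoc, ZModModule.add_self, zero_add]
  have e3 : a + b + a = b := by rw [add_comm, e1]
  have e4 : a + b + b = a := by rw [add_comm, e2]
  intro x hx y hy
  simp only [Finset.mem_insert, Finset.mem_singleton] at hx hy ⊢
  have e5 : b + a = a + b := add_comm b a
  rcases hx with e | e | e | e <;> rcases hy with e' | e' | e' | e' <;> rw [e, e'] <;>
    simp only [zero_add, add_zero, e1, e2, e3, e4, e5, ZModModule.add_self, true_or, or_true]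

theorem four_card {a b : V} (ha : a ≠ 0) (hb : b ≠ 0) (hab : a ≠ b) :
    ({0, a, b, a + b} : Finset V).card = 4 := by
  have h1 : a + b ≠ 0 := fun e => hab (by rw [eq_neg_of_add_eq_zero_left e, ZModModule.neg_eq_self])
  have h2 : a ≠ a + b := fun e => hb (left_eq_add.1 e)
  have h3 : b ≠ a + b := fun e => ha (right_eq_add.1 e)
  rw [Finset.card_insert_of_notMem, Finset.card_insert_of_notMem, Finset.card_insert_of_notMem,
    Finset.card_singleton] <;> simp [Ne.symm ha, Ne.symm hb, Ne.symm h1, hab, h2, h3]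

theorem rot_of {g : Ga} (h3 : g ^ 3 = 1) (h1 : g ≠ 1)
    (hs : (Finset.univ.image fun v : V => g • v + v).card ≤ 8) : ∃ a b : V, Rot3 g a b := by
  classical
  set s := Finset.univ.image fun v : V => g • v + v with hsd
  have g3 : ∀ v : V, g • g • g • v = v := fun v => by
    rw [← mul_smul, ← mul_smul, show g * g * g = 1 by rw [← h3]; simp [pow_succ, mul_assoc], one_smul]
  have hmem : ∀ v, g • v + v ∈ s := fun v => Finset.mem_image.2 ⟨v, Finset.mem_univ _, rfl⟩
  have hsum : ∀ x ∈ s, g • g • x + g • x + x = 0 := by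
    intro x hx
    obtain ⟨v, -, rfl⟩ := Finset.mem_image.1 hx
    rw [smul_add', smul_add', g3]
    have : ∀ p q r : V, p + q + (q + r) + (r + p) = 0 := fun p q r => by
      rw [show p + q + (q + r) + (r + p) = (p + p) + (q + q) + (r + r) by abel]
      simp [ZModModule.add_self]
    exact this _ _ _
  have hadd : ∀ x ∈ s, ∀ y ∈ s, x + y ∈ s := by
    intro x hx y hy
    obtain ⟨u, -, rfl⟩ := Finset.mem_image.1 hx
    obtain ⟨w, -, rfl⟩ := Finset.mem_image.1 hy
    refine Finset.mem_image.2 ⟨u + w, Finset.mem_univ _, ?_⟩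
    rw [smul_add']; abel
  have hsm : ∀ x ∈ s, g • x ∈ s := by
    intro x hx
    obtain ⟨u, -, rfl⟩ := Finset.mem_image.1 hx
    refine Finset.mem_image.2 ⟨g • u, Finset.mem_univ _, ?_⟩
    rw [smul_add']
  have hfix : ∀ x ∈ s, g • x = x → x = 0 := fun x hx e => by
    have := hsum x hx
    rwa [e, e, ZModModule.add_self, zero_add] at this
  obtain ⟨a, ha, ha0⟩ : ∃ a ∈ s, a ≠ 0 := by
    by_contra hh
    push Not at hh
    refine h1 (Subtype.ext (Subtype.ext (LinearEquiv.ext fun v => ?_)))
    show g • v = v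
    have := hh _ (hmem v)
    rw [eq_neg_of_add_eq_zero_left this, ZModModule.neg_eq_self]
  set b := g • a with hb
  have hb' : g • b = a + b := by
    have h := hsum a ha
    rw [add_assoc] at h
    rw [eq_neg_of_add_eq_zero_left h, ZModModule.neg_eq_self, ← hb, add_comm]
  have hsub : ({0, a, b, a + b} : Finset V) ⊆ s := by
    intro x hx
    simp only [Finset.mem_insert, Finset.mem_singleton] at hx
    rcases hx with rfl | rfl | rfl | rfl
    · have := hadd a ha a ha; rwa [ZModModule.add_self] at this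
    · exact ha
    · exact hsm a ha
    · exact hadd a ha b (hsm a ha)
  have hall : ∀ x ∈ s, x = 0 ∨ x = a ∨ x = b ∨ x = a + b := by
    by_contra hh
    push Not at hh
    obtain ⟨c, hc, c0, ca, cb, cab⟩ := hh
    set T : Finset V := {0, a, b, a + b} with hT
    have hba : b ≠ a := fun e => ha0 (hfix a ha e)
    have hb0 : b ≠ 0 := fun e => ha0 (by rw [← g3 a, ← hb, e, smul_zero', smul_zero'])
    have hTc : T.card = 4 := four_card ha0 hb0 (Ne.symm hba)
    have hTadd : ∀ x ∈ T, ∀ y ∈ T, x + y ∈ T := four_add a b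
    have hTsm : ∀ x ∈ T, g • x ∈ T := by
      intro x hx
      simp only [hT, Finset.mem_insert, Finset.mem_singleton] at hx ⊢
      rcases hx with rfl | rfl | rfl | rfl
      · left; exact smul_zero' g
      · exact Or.inr (Or.inr (Or.inl rfl))
      · exact Or.inr (Or.inr (Or.inr hb'))
      · refine Or.inr (Or.inl ?_)
        rw [smul_add', ← hb, hb', add_comm a b, ← add_assoc, ZModModule.add_self, zero_add]
    have hcT : c ∉ T := by
      simp only [hT, Finset.mem_insert, Finset.mem_singleton, not_or]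
      exact ⟨c0, ca, cb, cab⟩
    let C : Finset V := T.image fun x => c + x
    have hCc : C.card = 4 := by
      rw [Finset.card_image_of_injective _ (add_right_injective c), hTc]
    have hdis : Disjoint T C := by
      rw [Finset.disjoint_left]
      intro x hx hx'
      obtain ⟨y, hy, rfl⟩ := Finset.mem_image.1 hx'
      exact hcT (by have := hTadd _ hx _ hy; rwa [add_assoc, ZModModule.add_self, add_zero] at this)
    have heq : T ∪ C = s := by
      refine Finset.eq_of_subset_of_card_le (Finset.union_subset hsub ?_) ?_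
      · intro x hx
        obtain ⟨y, hy, rfl⟩ := Finset.mem_image.1 hx
        exact hadd c hc y (hsub hy)
      · rw [Finset.card_union_of_disjoint hdis, hTc, hCc]; exact hs
    obtain ⟨x, hx, hgc⟩ : ∃ x ∈ T, g • c = c + x := by
      have := hsm c hc
      rw [← heq, Finset.mem_union] at this
      rcases this with h | h
      · exfalso
        have := hTsm _ (hTsm _ h)
        rw [g3] at this
        exact hcT this
      · obtain ⟨y, hy, e⟩ := Finset.mem_image.1 h
        exact ⟨y, hy, e.symm⟩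
    have h2 := hsum c hc
    rw [hgc, smul_add', hgc, show c + x + g • x + (c + x) + c = c + ((c + c) + (x + x)) + g • x by abel,
      ZModModule.add_self, ZModModule.add_self, add_zero, add_zero] at h2
    rw [eq_neg_of_add_eq_zero_left h2, ZModModule.neg_eq_self] at hcT
    exact hcT (hTsm x hx)
  have hpab : pol a b = 1 := by
    rcases (show ∀ t : ZMod 2, t = 0 ∨ t = 1 by decide) (pol a b) with e | e
    · exfalso
      have e' : pol b a = 0 := by rw [pol_polar, QuadraticMap.polar_comm, ← pol_polar]; exact e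
      have haI : ∀ x ∈ s, pol a x = 0 ∧ pol b x = 0 := by
        intro x hx
        rcases hall x hx with hx | hx | hx | hx <;> rw [hx]
        · constructor <;> rw [pol_polar, QuadraticMap.polar_zero_right]
        · exact ⟨pol_self a, e'⟩
        · exact ⟨e, pol_self b⟩
        · constructor <;> rw [pol_addr] <;> simp [pol_self, e, e']
      refine ha0 (QF_pnd _ fun v => ?_)
      rw [← pol_polar]
      obtain ⟨h1', h2'⟩ := haI _ (hmem v)
      rw [pol_addr] at h1' h2'
      have two : ∀ p q : ZMod 2, p + q = 0 → p = q := by decide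
      have p1 : pol a v = pol b v := by
        rw [← two _ _ h2', hb, smul_pol]
      have p2 : pol b v = pol a v + pol b v := by
        conv_lhs => rw [← smul_pol g b v, hb', pol_polar, QuadraticMap.polar_add_left, ← pol_polar, ← pol_polar,
          two _ _ h1', two _ _ h2']
      rw [← p1] at p2
      exact left_eq_add.1 p2
    · exact e
  have hqb : qm b = qm a := smul_qm g a
  have hqa : qm a = 1 := by
    have h := hpab
    rw [pol, ← hb', smul_qm, hqb] at h
    exact (show ∀ t : ZMod 2, t + t + t = 1 → t = 1 by decide) _ h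
  refine ⟨a, b, ⟨hqa, hqb.trans hqa, hpab⟩, rfl, hb', fun v hva hvb => ?_⟩
  have h0 : g • v + v = 0 := by
    have hva' : pol a v = 0 := by rw [pol_polar, QuadraticMap.polar_comm, ← pol_polar]; exact hva
    have hvb' : pol b v = 0 := by rw [pol_polar, QuadraticMap.polar_comm, ← pol_polar]; exact hvb
    have orth_b : pol b (g • v + v) = 0 := by
      rw [pol_addr, hb, smul_pol, hva', ← hb, hvb', add_zero]
    have orth_a : pol a (g • v + v) = 0 := by
      have hga : g • (a + b) = a := by
        rw [smul_add', ← hb, hb', add_comm a b, ← add_assoc, ZModModule.add_self, zero_add]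
      rw [pol_addr, hva', add_zero]
      conv_lhs => rw [← hga, smul_pol]
      rw [pol_polar, QuadraticMap.polar_add_left, ← pol_polar, ← pol_polar, hva', hvb', add_zero]
    rcases hall _ (hmem v) with e | e | e | e
    · exact e
    · rw [e, pol_polar, QuadraticMap.polar_comm, ← pol_polar, hpab] at orth_b; exact absurd orth_b one_ne_zero
    · rw [e, hpab] at orth_a; exact absurd orth_a one_ne_zero
    · rw [e, pol_addr, pol_self, hpab, zero_add] at orth_a; exact absurd orth_a one_ne_zero
  rw [eq_neg_of_add_eq_zero_left h0, ZModModule.neg_eq_self]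

universe u

variable {G : Type u} [Group G] [Finite G] {z : G} {Q : Subgroup G}

/-- a change of coordinates by an element of the isometry subgroup -/
noncomputable def twist (F : Frame z Q) (c : Ga) : Frame z Q where
  vec a := c • F.vec a
  π := (MulAut.conj c).toMonoidHom.comp F.π
  vec_mul a ha b hb := by rw [F.vec_mul a ha b hb, smul_add']
  vec_surj v := by
    obtain ⟨a, ha, e⟩ := F.vec_surj (c⁻¹ • v)
    exact ⟨a, ha, by rw [e, smul_inv_smul]⟩
  vec_zero a ha := by
    rw [← F.vec_zero a ha]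
    exact ⟨fun e => by rw [← inv_smul_smul c (F.vec a), e, smul_zero'], fun e => by rw [e, smul_zero']⟩
  sq_iff a ha := by rw [smul_qm]; exact F.sq_iff a ha
  sq_or := F.sq_or
  comm_iff a ha b hb := by rw [smul_pol]; exact F.comm_iff a ha b hb
  comm_or := F.comm_or
  vec_conj d a ha := by
    rw [F.vec_conj d a ha]
    simp [mul_smul, inv_smul_smul]
  π_surj g := by
    obtain ⟨d, hd⟩ := F.π_surj (c⁻¹ * g * c)
    exact ⟨d, by simp [hd, mul_assoc]⟩
  π_ker d := by
    rw [← F.π_ker d]
    simp [MulAut.conj_apply]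

variable (F : Frame z Q)
include F

theorem pi_congr {a b : G} (ha : Commute a z) (hb : Commute b z) (e : a = b) : F.π (cC ha) = F.π (cC hb) := by
  subst e; rfl

theorem pi_pow {a : G} (ha : Commute a z) (n : ℕ) : F.π (cC (ha.pow_left n)) = F.π (cC ha) ^ n := by
  rw [← map_pow]; exact congrArg F.π (Subtype.ext (SubmonoidClass.coe_pow (cC ha) n).symm)

theorem pi_inv {a : G} (ha : Commute a z) : F.π (cC ha.inv_left) = (F.π (cC ha))⁻¹ := by
  rw [← map_inv]; rfl

theorem pi_conj {a c : G} (hc : Commute c z) (ha : Commute a z) :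
    F.π (cC ((hc.mul_left ha).mul_left hc.inv_left)) = F.π (cC hc) * F.π (cC ha) * (F.π (cC hc))⁻¹ := by
  rw [← map_inv, ← map_mul, ← map_mul]; rfl

theorem pi_cube {a : G} (ha : Commute a z) (h3 : a ^ 3 = 1) : F.π (cC ha) ^ 3 = 1 := by
  rw [← pi_pow F ha 3, pi_congr F _ (Commute.one_left z) h3]
  exact map_one F.π

theorem Q_cube (h : Hyp z Q) {a : G} (ha : a ∈ Q) (h3 : a ^ 3 = 1) : a = 1 := by
  have h2 : a * a = 1 ∨ a * a = z := F.sq_or a ha
  have e : a * (a * a) = 1 := by rw [← h3]; simp [pow_succ, mul_assoc]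
  rcases h2 with e2 | e2 <;> rw [e2] at e
  · simpa using e
  · have : a = z := by rw [eq_inv_of_mul_eq_one_left e, inv_eq_of_mul_eq_one_right (zz h)]
    rw [this, zz h] at e2
    exact absurd e2.symm (z_ne h)

/-- an element of order dividing three commutes with the elements of the extraspecial subgroup it fixes -/
theorem comm_Q (h : Hyp z Q) {d a : G} (hd : Commute d z) (d3 : d ^ 3 = 1) (ha : a ∈ Q)
    (hfix : F.π (cC hd) • F.vec a = F.vec a) : Commute d a := by
  rcases vec_eq F (h.norm d hd a ha) ha h (by rw [← hfix]; exact F.vec_conj (cC hd) a ha) with e | e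
  · exact mul_inv_eq_iff_eq_mul.1 e
  exfalso
  have h1 : ∀ x : G, d * (x * z) * d⁻¹ = d * x * d⁻¹ * z := fun x => by
    rw [show d * (x * z) * d⁻¹ = d * x * (z * d⁻¹) by group, ← hd.inv_left.eq]; group
  have e3 : d ^ 3 * a * (d ^ 3)⁻¹ = a * z := by
    calc d ^ 3 * a * (d ^ 3)⁻¹ = d * (d * (d * a * d⁻¹) * d⁻¹) * d⁻¹ := by
          simp only [pow_succ, pow_zero, one_mul]; group
      _ = a * z := by
          rw [e, h1 a, e, mul_assoc a z z, zz h, mul_one, e]
  rw [d3, one_mul, inv_one, mul_one] at e3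
  exact z_ne h (left_eq_mul.1 e3)

theorem fix_of_comm (h : Hyp z Q) {d a : G} (hd : Commute d z) (ha : a ∈ Q) (hc : Commute d a) :
    F.π (cC hd) • F.vec a = F.vec a := by
  rw [← F.vec_conj (cC hd) a ha]
  show F.vec (d * a * d⁻¹) = _
  rw [hc.eq, mul_inv_cancel_right]

/-- lifts of order three are conjugate under the extraspecial subgroup -/
theorem conj_lift' (h : Hyp z Q) {d d' : G} (hd : Commute d z) (hd' : Commute d' z) (d3 : d ^ 3 = 1)
    (d3' : d' ^ 3 = 1) (he : F.π (cC hd) = F.π (cC hd')) : ∃ k ∈ Q, k * d * k⁻¹ = d' ∧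
      F.vec k = F.π (cC hd) • F.π (cC hd) • F.vec (d⁻¹ * d') := by
  set g := F.π (cC hd) with hg
  have g3 : ∀ v : V, g • g • g • v = v := fun v => by
    rw [← mul_smul, ← mul_smul, show g * g * g = 1 by
      rw [← pi_cube F hd d3]; simp [← hg, pow_succ, mul_assoc], one_smul]
  have hdi : ((cC hd)⁻¹ : Subgroup.centralizer ({z} : Set G)).1 = d⁻¹ := rfl
  set q := d⁻¹ * d' with hqd
  have hq : q ∈ Q := (F.π_ker ((cC hd)⁻¹ * cC hd')).1 (by rw [map_mul, map_inv, ← hg, he, inv_mul_cancel])
  have hdq : d' = d * q := by rw [hqd]; group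
  have h2q : d * d * q * (d * d)⁻¹ ∈ Q := h.norm _ (hd.mul_left hd) q hq
  have h1q : d * q * d⁻¹ ∈ Q := h.norm _ hd q hq
  have hsum : g • F.vec q + g • g • F.vec q + F.vec q = 0 := by
    have e : d * q * d⁻¹ * (d * d * q * (d * d)⁻¹) * q = 1 := by
      calc d * q * d⁻¹ * (d * d * q * (d * d)⁻¹) * q = (d * q) ^ 3 := by
            rw [show (d * d)⁻¹ = d by
              refine inv_eq_of_mul_eq_one_right ?_
              rw [← d3]; simp [pow_succ, mul_assoc]]
            simp only [pow_succ, pow_zero, one_mul]; group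
        _ = 1 := by rw [← hdq, d3']
    have hv := congrArg F.vec e
    rw [vec_one F h, F.vec_mul _ (mul_mem h1q h2q) _ hq, F.vec_mul _ h1q _ h2q] at hv
    have e1 : F.vec (d * q * d⁻¹) = g • F.vec q := F.vec_conj (cC hd) q hq
    have e2 : F.vec (d * d * q * (d * d)⁻¹) = g • g • F.vec q := by
      rw [show d * d * q * (d * d)⁻¹ = d * (d * q * d⁻¹) * d⁻¹ by group, ← e1]
      exact F.vec_conj (cC hd) _ h1q
    rwa [e1, e2] at hv
  obtain ⟨k, hk, hkv⟩ := F.vec_surj (g • g • F.vec q)
  have hdk : d⁻¹ * k * d ∈ Q := by simpa using h.norm d⁻¹ hd.inv_left k hk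
  have hcom : d⁻¹ * k * d * k⁻¹ ∈ Q := mul_mem hdk (inv_mem hk)
  have e1 : F.vec (d⁻¹ * k * d) = g⁻¹ • F.vec k := by
    have := F.vec_conj (cC hd)⁻¹ k hk
    rwa [hdi, inv_inv, map_inv, ← hg] at this
  have hv : F.vec (d⁻¹ * k * d * k⁻¹) = F.vec q := by
    rw [F.vec_mul _ hdk _ (inv_mem hk), vec_inv F h hk, e1, hkv, inv_smul_smul]
    exact (eq_neg_of_add_eq_zero_left hsum).trans (ZModModule.neg_eq_self _)
  refine ⟨k, hk, ?_, hkv⟩
  rcases vec_eq F hcom hq h hv with e | e
  · rw [hdq, ← e]; group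
  · exfalso
    have hk3 : (k * d * k⁻¹) ^ 3 = 1 := by rw [conj_pow, d3]; group
    rw [show k * d * k⁻¹ = d * (d⁻¹ * k * d * k⁻¹) by group, e, ← mul_assoc, ← hdq,
      (show Commute d' z from hd').mul_pow, d3', one_mul, pow_succ, pow_two, zz h, one_mul] at hk3
    exact z_ne h hk3

theorem conj_lift (h : Hyp z Q) {d d' : G} (hd : Commute d z) (hd' : Commute d' z) (d3 : d ^ 3 = 1)
    (d3' : d' ^ 3 = 1) (he : F.π (cC hd) = F.π (cC hd')) : ∃ k ∈ Q, k * d * k⁻¹ = d' := by
  obtain ⟨k, hk, e, -⟩ := conj_lift' F h hd hd' d3 d3' he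
  exact ⟨k, hk, e⟩

theorem lift3 (h : Hyp z Q) {g : Ga} (g3 : g ^ 3 = 1) {d : G} (hd : Commute d z) (he : F.π (cC hd) = g) :
    (d ^ 4) ^ 3 = 1 ∧ F.π (cC (hd.pow_left 4)) = g := by
  refine ⟨?_, by rw [pi_pow F hd, he, pow_succ, g3, one_mul]⟩
  have hq : d ^ 3 ∈ Q := (F.π_ker (cC (hd.pow_left 3))).1 (by rw [pi_pow F hd, he, g3])
  rw [← pow_mul, show 4 * 3 = 3 * (2 * 2) by norm_num, pow_mul, pow_mul]
  rcases F.sq_or _ hq with e | e <;> rw [pow_two (d ^ 3), e]
  · exact one_pow 2
  · rw [pow_two]; exact zz h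

theorem exists_lift3 (h : Hyp z Q) {g : Ga} (g3 : g ^ 3 = 1) :
    ∃ d : G, ∃ hd : Commute d z, d ^ 3 = 1 ∧ F.π (cC hd) = g := by
  obtain ⟨c, hc⟩ := F.π_surj g
  obtain ⟨e1, e2⟩ := lift3 F h g3 (mem_C.1 c.2) hc
  exact ⟨_, _, e1, e2⟩

end Cfsg.Agent.Spor.SuzT.Three
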