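import Cfsg.Agent.Lib.Spor.UFourThreeType.Main

/-!
In a group of type U4(3) some element of order three centralising an involution together with a quaternion group
is a commutator in its centraliser.
-/

set_option autoImplicit false
set_option maxRecDepth 100000

namespace Cfsg.Agent.Spor.UFour

/-- the element of order three, the central involution, two elements of order four, two elements of the
centraliser of the first -/
def wU : Equiv.Perm (Fin 280) := mGen 1

/-- a word -/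
def wA : Equiv.Perm (Fin 280) := ([2, 1, 2, 4, 4, 1, 1, 0, 0, 0, 2, 4, 0, 1, 4].map mGen).prod

/-- a word -/
def wB : Equiv.Perm (Fin 280) := ([4, 4, 1, 1, 0, 0, 0, 2, 4, 0, 1, 4, 2, 1, 2].map mGen).prod

theorem wit_comm : (∀ i, wA (wU i) = wU (wA i)) ∧ (∀ i, wB (wU i) = wU (wB i)) ∧
    (∀ i, wA (wB i) = wU (wB (wA i))) := by decide +kernel

theorem wit_u : (∀ i, wU (wU (wU i)) = i) ∧ ¬ (∀ i, wU i = i) := by decide +kernel

theorem wit_q : (∀ i, modelG.ev 4 (modelG.ev 4 i) = i) ∧ ¬ (∀ i, modelG.ev 4 i = i) ∧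
    (∀ i, modelG.ev 4 (wU i) = wU (modelG.ev 4 i)) ∧
    (∀ i, modelG.ev 8 (wU i) = wU (modelG.ev 8 i)) ∧ (∀ i, modelG.ev 56 (wU i) = wU (modelG.ev 56 i)) ∧
    (∀ i, modelG.ev 8 (modelG.ev 8 i) = modelG.ev 4 i) ∧ (∀ i, modelG.ev 56 (modelG.ev 56 i) = modelG.ev 4 i) ∧
    (∀ i, modelG.ev 8 (modelG.ev 56 (modelG.ev 8 (modelG.ev 56 i))) = modelG.ev 4 i) := by decide +kernel

/-- the witness, for a given involution -/
theorem Frame.witness {X : Type*} [Group X] [Finite X] (F : Frame X) (s : X) (hs : orderOf s = 2) :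
    ∃ u w w' a b : X, u ^ 3 = 1 ∧ u ≠ 1 ∧ Commute u s ∧ Commute w u ∧ Commute w' u ∧ w * w = s ∧ w' * w' = s ∧
      (w * w') * (w * w') = s ∧ Commute a u ∧ Commute b u ∧ a * b = u * (b * a) := by
  obtain ⟨e0⟩ := F.gen_iso
  let e : modelG.gen ≃* X := e0.trans ((MulEquiv.subgroupCongr F.gen_eq_top).trans Subgroup.topEquiv)
  have hev : ∀ p, p < 1152 → modelG.ev p ∈ modelG.gen := fun p hp => modelG.hSub_le_gen ⟨p, hp, rfl⟩
  let S : modelG.gen := ⟨modelG.ev 4, hev 4 (by omega)⟩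
  let U : modelG.gen := ⟨wU, mGen_mem 1⟩
  let W : modelG.gen := ⟨modelG.ev 8, hev 8 (by omega)⟩
  let W' : modelG.gen := ⟨modelG.ev 56, hev 56 (by omega)⟩
  have hm : ∀ l : List ℕ, (l.map mGen).prod ∈ modelG.gen := fun l => list_prod_mem fun x hx => by
    obtain ⟨k, -, rfl⟩ := List.mem_map.1 hx
    exact mGen_mem k
  let A : modelG.gen := ⟨wA, hm _⟩
  let B : modelG.gen := ⟨wB, hm _⟩
  obtain ⟨q1, q2, q3, q4, q5, q6, q7, q8⟩ := wit_q
  have hS : orderOf (e S) = 2 := by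
    rw [MulEquiv.orderOf_eq]
    refine orderOf_eq_prime (Subtype.ext (Equiv.ext fun i => ?_)) fun h => q2 fun i => ?_
    · rw [SubmonoidClass.coe_pow, pow_two]; exact q1 i
    · have := congrArg (fun x : modelG.gen => (x : Equiv.Perm (Fin 280)) i) h
      exact this
  obtain ⟨c, hc⟩ := isConj_iff.1 (F.one_class hS hs)
  let φ : modelG.gen ≃* X := e.trans (MulAut.conj c)
  have hφ : φ S = s := hc
  have lift : ∀ p q : modelG.gen, (∀ i, (p : Equiv.Perm (Fin 280)) i = (q : Equiv.Perm (Fin 280)) i) → φ p = φ q :=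
    fun p q h => congrArg φ (Subtype.ext (Equiv.ext h))
  refine ⟨φ U, φ W, φ W', φ A, φ B, ?_, ?_, ?_, ?_, ?_, ?_, ?_, ?_, ?_, ?_, ?_⟩
  · rw [← map_pow, ← map_one φ]
    exact lift _ _ fun i => by simp only [SubmonoidClass.coe_pow, pow_succ, pow_zero, one_mul]; exact wit_u.1 i
  · intro h
    rw [← map_one φ] at h
    exact wit_u.2 fun i => congrArg (fun x : modelG.gen => (x : Equiv.Perm (Fin 280)) i) (φ.injective h)
  · rw [← hφ]; show φ U * φ S = φ S * φ U; rw [← map_mul, ← map_mul]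
    exact lift _ _ fun i => (q3 i).symm
  · show φ W * φ U = φ U * φ W; rw [← map_mul, ← map_mul]; exact lift _ _ q4
  · show φ W' * φ U = φ U * φ W'; rw [← map_mul, ← map_mul]; exact lift _ _ q5
  · rw [← hφ, ← map_mul]; exact lift _ _ q6
  · rw [← hφ, ← map_mul]; exact lift _ _ q7
  · rw [← hφ, ← map_mul, ← map_mul]; exact lift _ _ q8
  · show φ A * φ U = φ U * φ A; rw [← map_mul, ← map_mul]; exact lift _ _ wit_comm.1
  · show φ B * φ U = φ U * φ B; rw [← map_mul, ← map_mul]; exact lift _ _ wit_comm.2.1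
  · rw [← map_mul, ← map_mul, ← map_mul]; exact lift _ _ wit_comm.2.2

end Cfsg.Agent.Spor.UFour
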