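import Cfsg.Agent.Lib.Spor.SuzY.Quot
import Cfsg.Agent.Lib.Spor.SuzY.Witness

/-!
Groups of Suzuki sporadic type: the element of order three lies in the commutator subgroup of its centraliser.
-/

set_option autoImplicit false
set_option maxRecDepth 100000
set_option linter.unusedSectionVars false

namespace Cfsg.Agent.Spor.SuzT.Three

open scoped commutatorElement

universe u

variable {G : Type u} [Group G] [Finite G] {z : G} {Q : Subgroup G} {K : Ctx z Q}

theorem Ctx.frame (K : Ctx z Q) (D : Pair2 K) : Nonempty (UFour.Frame (K.L ⧸ K.P)) := by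
  obtain ⟨e1⟩ := D.iso1
  obtain ⟨e2⟩ := D.iso2
  exact UFour.frame_of_hyp K.zb K.zb_ord D.H1 D.H2 D.odd_closure D.normal1 D.normal2 e1 e2 D.meet K.RH
    D.pCore_join.symm D.gfit K.nwc (by rw [K.card_H]; norm_num) K.inter_four

theorem e3_mod (i j k : ℕ) : e3 i j k = e3 (i % 3) (j % 3) (k % 3) := by
  have red : ∀ {g : Ga}, g ^ 3 = 1 → ∀ n : ℕ, g ^ n = g ^ (n % 3) := fun {g} hg n => by
    conv_lhs => rw [← Nat.div_add_mod n 3, pow_add, pow_mul, hg, one_pow, one_mul]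
  rw [e3, e3, ← red rot0.cube, ← red rot1.cube, ← red rot2.cube]

theorem e3_inj {i j k i' j' k' : ℕ} (h : e3 i j k = e3 i' j' k') :
    i % 3 = i' % 3 ∧ j % 3 = j' % 3 ∧ k % 3 = k' % 3 := by
  rw [e3_mod, e3_mod i'] at h
  obtain ⟨a1, -, a3, -, a5, -⟩ := e3_act (i % 3) (j % 3) (k % 3)
  obtain ⟨b1, -, b3, -, b5, -⟩ := e3_act (i' % 3) (j' % 3) (k' % 3)
  rw [h] at a1 a3 a5
  exact ⟨pow_inj rot0 (Nat.mod_lt _ (by norm_num)) (Nat.mod_lt _ (by norm_num)) (a1.symm.trans b1),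
    pow_inj rot1 (Nat.mod_lt _ (by norm_num)) (Nat.mod_lt _ (by norm_num)) (a3.symm.trans b3),
    pow_inj rot2 (Nat.mod_lt _ (by norm_num)) (Nat.mod_lt _ (by norm_num)) (a5.symm.trans b5)⟩

/-- the first rotation is sent to itself or its inverse -/
def Keeps (d : Ga) : Prop := d * t1 * d⁻¹ = t1 ∨ d * t1 * d⁻¹ = t1⁻¹

theorem inv_eq_sq {t : Ga} (h : t ^ 3 = 1) : t⁻¹ = t ^ 2 :=
  inv_eq_of_mul_eq_one_right (by rw [← pow_succ', h])

theorem keeps_two {d : Ga} (hd : Commute d g0) (hk : Keeps d) : d * t2 * d⁻¹ = t2 ∨ d * t2 * d⁻¹ = t2⁻¹ := by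
  obtain ⟨f5, f11, f10, f7, -⟩ := inF_vals
  have inj : ∀ a b : Ga, d * a * d⁻¹ = d * b * d⁻¹ → a = b := fun a b e => mul_left_cancel (mul_right_cancel e)
  have hne : ∀ j k, (k : ℕ) % 3 ≠ 0 → t1 ^ (j : ℕ) ≠ t2 ^ k := fun j k hk e => hk (by
    have h0 : e3 0 j (2 * k) = 1 := by
      rw [e3, e, pow_zero, one_mul, ← pow_add, show k + 2 * k = 3 * k by ring, pow_mul, rot2.cube, one_pow]
    have := (e3_zero h0).2.2
    omega)
  have i1 : d * t1⁻¹ * d⁻¹ = (d * t1 * d⁻¹)⁻¹ := by group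
  rcases conj_rot hd rot2 f10 f7 with e | e | e | e
  · exfalso
    rcases hk with h | h
    · exact hne 1 1 (by norm_num) (by rw [pow_one, pow_one]; exact inj _ _ (h.trans e.symm))
    · exact hne 2 1 (by norm_num) (by
        rw [pow_one, ← inv_eq_sq rot1.cube]
        exact inj _ _ (by rw [i1, h, inv_inv, e]))
  · exfalso
    rcases hk with h | h
    · exact hne 2 1 (by norm_num) (by
        rw [pow_one, ← inv_eq_sq rot1.cube]
        exact inj _ _ (by rw [i1, h, e]))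
    · exact hne 1 1 (by norm_num) (by rw [pow_one, pow_one]; exact inj _ _ (h.trans e.symm))
  · exact Or.inl e
  · exact Or.inr e

theorem not_keeps {d : Ga} (hd : Commute d g0) (hk : ¬ Keeps d) :
    d * t1 * d⁻¹ = t2 ∨ d * t1 * d⁻¹ = t2⁻¹ := by
  obtain ⟨f5, f11, -⟩ := inF_vals
  rcases conj_rot hd rot1 f5 f11 with e | e | e | e
  exacts [absurd (Or.inl e) hk, absurd (Or.inr e) hk, Or.inl e, Or.inr e]

theorem keeps_mul {d d' : Ga} (hd : Commute d g0) (hd' : Commute d' g0) (h : ¬ Keeps d) (h' : ¬ Keeps d') :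
    Keeps (d * d') := by
  obtain ⟨f5, f11, f10, f7, -⟩ := inF_vals
  have inj : ∀ a b : Ga, d * a * d⁻¹ = d * b * d⁻¹ → a = b := fun a b e => mul_left_cancel (mul_right_cancel e)
  have e2 : d * t2 * d⁻¹ = t1 ∨ d * t2 * d⁻¹ = t1⁻¹ := by
    rcases conj_rot hd rot2 f10 f7 with e | e | e | e
    · exact Or.inl e
    · exact Or.inr e
    all_goals
      exfalso
      have hne : t1 ≠ t2 ∧ t1 ≠ t2⁻¹ := by
        constructor <;> intro e
        · have h0 : e3 0 1 2 = 1 := by rw [e3, pow_zero, one_mul, pow_one, e, ← pow_succ', rot2.cube]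
          exact absurd (e3_zero h0).2.1 (by norm_num)
        · have h0 : e3 0 1 1 = 1 := by rw [e3, pow_zero, one_mul, pow_one, pow_one, e, inv_mul_cancel]
          exact absurd (e3_zero h0).2.1 (by norm_num)
      have i2 : d * t2⁻¹ * d⁻¹ = (d * t2 * d⁻¹)⁻¹ := by group
      rcases not_keeps hd h with e' | e'
      · first
          | exact hne.1 (inj _ _ (e'.trans e.symm))
          | exact hne.2 (inj _ _ (by rw [i2, e, inv_inv, e']))
      · first
          | exact hne.1 (inj _ _ (e'.trans e.symm))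
          | exact hne.2 (inj _ _ (by rw [i2, e, e']))
  rcases not_keeps hd' h' with e | e <;> rcases e2 with f | f <;> unfold Keeps <;>
    rw [show d * d' * t1 * (d * d')⁻¹ = d * (d' * t1 * d'⁻¹) * d⁻¹ by group, e]
  · exact Or.inl f
  · exact Or.inr f
  · exact Or.inr (by rw [show d * t2⁻¹ * d⁻¹ = (d * t2 * d⁻¹)⁻¹ by group, f])
  · exact Or.inl (by rw [show d * t2⁻¹ * d⁻¹ = (d * t2 * d⁻¹)⁻¹ by group, f, inv_inv])

theorem keeps_trivial {d : Ga} (hd : Commute d g0) (hk : Keeps d) {i j k m n : ℕ} (hj : j % 3 ≠ 0) (hk3 : k % 3 ≠ 0)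
    (h : d * e3 i j k * d⁻¹ = g0 ^ m * e3 i j k) (hsq : d * d = g0 ^ n) : d = g0 ^ (2 * n) := by
  have hg : d * g0 ^ i * d⁻¹ = g0 ^ i := by rw [(hd.pow_right i).eq, mul_inv_cancel_right]
  have hj' : ∃ a, d * t1 * d⁻¹ = t1 ^ a ∧ (a = 1 ∨ a = 2) := by
    rcases hk with e | e
    · exact ⟨1, by rw [e, pow_one], Or.inl rfl⟩
    · exact ⟨2, by rw [e, inv_eq_sq rot1.cube], Or.inr rfl⟩
  have hk' : ∃ b, d * t2 * d⁻¹ = t2 ^ b ∧ (b = 1 ∨ b = 2) := by
    rcases keeps_two hd hk with e | e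
    · exact ⟨1, by rw [e, pow_one], Or.inl rfl⟩
    · exact ⟨2, by rw [e, inv_eq_sq rot2.cube], Or.inr rfl⟩
  obtain ⟨a, ha, ha'⟩ := hj'
  obtain ⟨b, hb, hb'⟩ := hk'
  have he : e3 i (a * j) (b * k) = e3 (m + i) j k := by
    rw [e3, e3, pow_add, pow_mul t1, pow_mul t2, ← ha, ← hb, conj_pow, conj_pow]
    conv_lhs => rw [← hg]
    rw [show d * g0 ^ i * d⁻¹ * (d * t1 ^ j * d⁻¹) * (d * t2 ^ k * d⁻¹) = d * (g0 ^ i * t1 ^ j * t2 ^ k) * d⁻¹ by
      group]
    rw [show g0 ^ i * t1 ^ j * t2 ^ k = e3 i j k from rfl, h, e3]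
    group
  obtain ⟨-, hja, hkb⟩ := e3_inj he
  have ha1 : a = 1 := by
    rcases ha' with rfl | rfl
    · rfl
    · omega
  have hb1 : b = 1 := by
    rcases hb' with rfl | rfl
    · rfl
    · omega
  rw [ha1, pow_one] at ha
  rw [hb1, pow_one] at hb
  obtain ⟨p, -, q, -, r, -, e⟩ := N3_eq (mem_N3.2 ⟨hd, mul_inv_eq_iff_eq_mul.1 ha, mul_inv_eq_iff_eq_mul.1 hb⟩)
  have hd3 : d ^ 3 = 1 := by
    have c1 : Commute (g0 ^ p) (t1 ^ q) := comm_g_t1.pow_pow p q
    have c2 : Commute (g0 ^ p * t1 ^ q) (t2 ^ r) :=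
      (comm_g_t2.pow_pow p r).mul_left (comm_t1_t2.pow_pow q r)
    rw [e, e3, c2.mul_pow, c1.mul_pow]
    simp only [← pow_mul]
    rw [mul_comm p, mul_comm q, mul_comm r, pow_mul, pow_mul, pow_mul, rot0.cube, rot1.cube, rot2.cube]
    simp
  calc d = d ^ 3 * d := by rw [hd3, one_mul]
    _ = (d * d) * (d * d) := by simp [pow_succ, mul_assoc]
    _ = g0 ^ (2 * n) := by rw [hsq, ← pow_add, two_mul]

theorem pow_unit {t : Ga} (h : t ^ 3 = 1) {j : ℕ} (hj : j % 3 ≠ 0) : (t ^ j) ^ j = t := by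
  have h1 : j * j % 3 = 1 := by
    rw [Nat.mul_mod]
    have := Nat.mod_lt j (show 0 < 3 by norm_num)
    interval_cases (j % 3) <;> simp_all
  rw [← pow_mul, show j * j = 3 * ((j * j) / 3) + 1 by omega, pow_succ, pow_mul, h, one_pow, one_mul]

theorem plane_pow {t : Ga} {a b : V} (h : Rot3 t a b) (n : ℕ) (x : Fin 4) :
    ∃ x' : Fin 4, t ^ n • [0, a, b, a + b][x] = [0, a, b, a + b][x'] := by
  induction n generalizing x with
  | zero => exact ⟨x, by simp⟩
  | succ n ih =>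
    obtain ⟨x1, e⟩ : ∃ x1 : Fin 4, t • [0, a, b, a + b][x] = [0, a, b, a + b][x1] := by
      fin_cases x
      · exact ⟨0, smul_zero' t⟩
      · exact ⟨2, h.fst⟩
      · exact ⟨3, h.snd⟩
      · refine ⟨1, ?_⟩
        show t • (a + b) = a
        rw [smul_add', h.fst, h.snd, add_comm a b, ← add_assoc, ZModModule.add_self, zero_add]
    obtain ⟨x', e'⟩ := ih x1
    exact ⟨x', by rw [pow_succ, mul_smul, e, e']⟩

theorem plane_sep : ∀ b b' c c' : Fin 4, [0, v5, v11, v5 + v11][b'] + [0, v10, v7, v10 + v7][c'] =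
    [0, v5, v11, v5 + v11][b] + [0, v10, v7, v10 + v7][c] → b' = b ∧ c' = c := by decide +kernel

set_option synthInstance.maxSize 4000 in
theorem plane_perp : (∀ b : Fin 4, pol [0, v5, v11, v5 + v11][b] v5 = 0 → pol [0, v5, v11, v5 + v11][b] v11 = 0 → b = 0) ∧
    (∀ c : Fin 4, pol [0, v10, v7, v10 + v7][c] v10 = 0 → pol [0, v10, v7, v10 + v7][c] v7 = 0 → c = 0) ∧
    (∀ v : V, InF v → ∃ b c : Fin 4, v = [0, v5, v11, v5 + v11][b] + [0, v10, v7, v10 + v7][c]) := by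
  unfold InF; decide +kernel

theorem act_plane1 (i j k : ℕ) (b : Fin 4) :
    e3 i j k • [0, v5, v11, v5 + v11][b] = t1 ^ j • [0, v5, v11, v5 + v11][b] := by
  obtain ⟨-, -, a3, a4, -, -⟩ := e3_act i j k
  fin_cases b
  · exact (smul_zero' _).trans (smul_zero' _).symm
  · exact a3
  · exact a4
  · show e3 i j k • (v5 + v11) = t1 ^ j • (v5 + v11)
    rw [smul_add', smul_add', a3, a4]

theorem act_plane2 (i j k : ℕ) (c : Fin 4) :
    e3 i j k • [0, v10, v7, v10 + v7][c] = t2 ^ k • [0, v10, v7, v10 + v7][c] := by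
  obtain ⟨-, -, -, -, a5, a6⟩ := e3_act i j k
  fin_cases c
  · exact (smul_zero' _).trans (smul_zero' _).symm
  · exact a5
  · exact a6
  · show e3 i j k • (v10 + v7) = t2 ^ k • (v10 + v7)
    rw [smul_add', smul_add', a5, a6]

theorem fixed_zero {j k : ℕ} (hj : j % 3 ≠ 0) (hk : k % 3 ≠ 0) {i : ℕ} {v : V} (hv : InF v)
    (h : e3 i j k • v = v) : v = 0 := by
  obtain ⟨p1, p2, p3⟩ := plane_perp
  obtain ⟨b, c, rfl⟩ := p3 v hv
  obtain ⟨b', eb⟩ := plane_pow rot1 j b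
  obtain ⟨c', ec⟩ := plane_pow rot2 k c
  rw [smul_add', act_plane1, act_plane2, eb, ec] at h
  obtain ⟨rfl, rfl⟩ := plane_sep b b' c c' h
  have f1 := pow_fix eb j
  have f2 := pow_fix ec k
  rw [pow_unit rot1.cube hj] at f1
  rw [pow_unit rot2.cube hk] at f2
  obtain rfl := p1 _ (fix1_iff f1).1 (fix1_iff f1).2
  obtain rfl := p2 _ (fix2_iff f2).1 (fix2_iff f2).2
  simp

theorem Ctx.ψ_pow {g g' : K.CY} (h : K.ψ g = K.ψ g') : ∃ m, (g' : G) = g * K.y ^ m := by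
  obtain ⟨m, -, e⟩ := K.exists_nat (K.ψ_eq.1 h)
  exact ⟨m, by rw [← e]; group⟩

theorem Ctx.PI_of_eq {g g' : K.CY} {m : ℕ} (h : (g' : G) = g * K.y ^ m) : K.PI g' = K.PI g * g0 ^ m := by
  rw [K.PI_val, K.PI_val, ← K.piy, ← pi_pow K.F K.hyz, ← π_mul K.F g.2.1 (K.hyz.pow_left m)]
  exact pi_congr K.F _ _ h

theorem Pair2.one_kind (D : Pair2 K) {c : K.CY} (hu3 : K.ψ c ^ 3 = 1) (hu1 : K.ψ c ≠ 1)
    {w w' : K.CY} (hw : Commute (K.ψ w) (K.ψ c)) (hw' : Commute (K.ψ w') (K.ψ c))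
    (sw : K.ψ w * K.ψ w = K.ψ K.zc) (sw' : K.ψ w' * K.ψ w' = K.ψ K.zc)
    (sww : (K.ψ w * K.ψ w') * (K.ψ w * K.ψ w') = K.ψ K.zc) :
    ∃ P : Pl K, (P.t = t1 ∨ P.t = t2) ∧ ∃ i j : ℕ, j % 3 ≠ 0 ∧ (c : G) ^ 3 = 1 ∧ K.PI c = g0 ^ i * P.t ^ j := by
  obtain ⟨m, hm⟩ := Ctx.ψ_pow (g := c ^ 3) (g' := 1) (by rw [map_pow, hu3, map_one])
  have hN : K.PI c ∈ N3 := by
    refine odd_mem (K.pi_comm c.2.1 c.2.2) ?_
    have h9 : c ^ (3 * 3) = 1 := Subtype.ext (by
      rw [pow_mul, SubmonoidClass.coe_pow, SubmonoidClass.coe_pow]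
      have e : ((c : G) ^ 3) = (K.y ^ m)⁻¹ := eq_inv_of_mul_eq_one_left (by simpa using hm.symm)
      rw [e, inv_pow, ← pow_mul, mul_comm, pow_mul, K.y3, one_pow, inv_one]; rfl)
    exact Odd.of_dvd_nat (n := 3 * 3) (by decide) ((orderOf_map_dvd _ _).trans (orderOf_dvd_of_pow_eq_one h9))
  obtain ⟨i, -, j, hj, k, hk, e⟩ := N3_eq hN
  have hc3 : (c : G) ^ 3 = 1 := by
    have e3c : K.PI (c ^ 3) = 1 := by
      rw [map_pow, e, e3, ((comm_g_t2.pow_pow i k).mul_left (comm_t1_t2.pow_pow j k)).mul_pow,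
        (comm_g_t1.pow_pow i j).mul_pow, ← pow_mul, ← pow_mul, ← pow_mul, mul_comm i, mul_comm j, mul_comm k,
        pow_mul, pow_mul, pow_mul, rot0.cube, rot1.cube, rot2.cube]
      simp
    have hQ : (c : G) ^ 3 ∈ Q := by
      have := (K.F.π_ker _).1 e3c
      simpa using this
    have h1 : (K.y ^ m) = ((c : G) ^ 3)⁻¹ := eq_inv_of_mul_eq_one_right (by simpa using hm.symm)
    have := K.mem_Q_y (h1 ▸ inv_mem hQ)
    rw [this, eq_comm, inv_eq_one] at h1
    exact h1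
  by_cases hj0 : j % 3 = 0
  · by_cases hk0 : k % 3 = 0
    · exfalso
      apply hu1
      have hj' : j = 0 := by omega
      have hk' : k = 0 := by omega
      rw [e3, hj', hk', pow_zero, pow_zero, mul_one, mul_one] at e
      set q := (c : G) * (K.y ^ i)⁻¹ with hq
      have hqQ : q ∈ Q := (K.F.π_ker (cC c.2.1 * (cC (K.hyz.pow_left i))⁻¹)).1 (by
        rw [map_mul, map_inv, pi_pow K.F K.hyz, K.piy, ← K.PI_val, e, mul_inv_cancel])
      have h3 : q ^ 3 = 1 := by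
        rw [hq, ((c.2.2.pow_right i).inv_right).mul_pow, hc3, one_mul, inv_pow, ← pow_mul, mul_comm, pow_mul, K.y3,
          one_pow, inv_one]
      have hci : (c : G) = K.y ^ i := mul_inv_eq_one.1 (Q_cube K.F K.h hqQ h3)
      rw [K.ψ_one, hci]
      exact pow_mem (Subgroup.mem_zpowers _) i
    · have hj' : j = 0 := by omega
      refine ⟨D.P', Or.inr D.ht', i, k, hk0, hc3, ?_⟩
      rw [e, e3, hj', pow_zero, mul_one, D.ht']
  · by_cases hk0 : k % 3 = 0
    · have hk' : k = 0 := by omega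
      refine ⟨D.P, Or.inl D.ht, i, j, hj0, hc3, ?_⟩
      rw [e, e3, hk', pow_zero, mul_one, D.ht]
    exfalso
    -- no element of order four commutes and keeps the planes
    have key : ∀ a : K.CY, Commute (K.ψ a) (K.ψ c) → K.ψ a * K.ψ a = K.ψ K.zc → ¬ Keeps (K.PI a) := by
      intro a hac haa hkeep
      obtain ⟨m1, hm1⟩ := Ctx.ψ_pow (g := c * a) (g' := a * c) (by rw [map_mul, map_mul]; exact hac.eq.symm)
      obtain ⟨m2, hm2⟩ := Ctx.ψ_pow (g := K.zc) (g' := a * a) (by rw [map_mul]; exact haa.symm)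
      have h1 := Ctx.PI_of_eq hm1
      have h2 := Ctx.PI_of_eq hm2
      rw [map_mul, map_mul, e] at h1
      rw [map_mul, show K.PI K.zc = 1 from π_Q K.F K.h (zQ K.h), one_mul] at h2
      have hag : Commute (K.PI a) g0 := K.pi_comm a.2.1 a.2.2
      have hconj : K.PI a * e3 i j k * (K.PI a)⁻¹ = g0 ^ m1 * e3 i j k := by
        rw [h1, show e3 i j k * K.PI a * g0 ^ m1 * (K.PI a)⁻¹ = e3 i j k * (K.PI a * g0 ^ m1 * (K.PI a)⁻¹) by group,
          (hag.pow_right m1).eq, mul_inv_cancel_right]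
        exact (((mem_N3.1 (e3_mem i j k)).1).pow_right m1).eq
      have hπ := keeps_trivial hag hkeep hj0 hk0 hconj h2
      set q := (a : G) * (K.y ^ (2 * m2))⁻¹ with hq
      have hqQ : q ∈ Q := (K.F.π_ker (cC a.2.1 * (cC (K.hyz.pow_left (2 * m2)))⁻¹)).1 (by
        rw [map_mul, map_inv, pi_pow K.F K.hyz, K.piy, ← K.PI_val, hπ, mul_inv_cancel])
      have hqy : Commute q K.y := a.2.2.mul_left ((Commute.refl K.y).pow_left _).inv_left
      have hqa : (a : G) = q * K.y ^ (2 * m2) := by rw [hq]; group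
      have hcq : Commute (c : G) q := by
        have h3 : (a : G) * c = (c : G) * a * K.y ^ m1 := hm1
        rw [hqa] at h3
        have hq' : (c : G)⁻¹ * q⁻¹ * c * q ∈ Q := by
          refine mul_mem ?_ hqQ
          simpa using K.h.norm _ c.2.1.inv_left _ (inv_mem hqQ)
        have e1 : (c : G) * q * K.y ^ m1 = q * c := by
          have cy : Commute (K.y ^ (2 * m2)) (c : G) := (c.2.2.pow_right _).symm
          have cm : Commute (K.y ^ (2 * m2)) (K.y ^ m1) := (Commute.refl _).pow_pow _ _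
          refine mul_right_cancel (b := K.y ^ (2 * m2)) ?_
          calc (c : G) * q * K.y ^ m1 * K.y ^ (2 * m2) = (c : G) * (q * K.y ^ (2 * m2)) * K.y ^ m1 := by
                rw [mul_assoc _ (K.y ^ m1), ← cm.eq]; group
            _ = q * K.y ^ (2 * m2) * c := h3.symm
            _ = q * c * K.y ^ (2 * m2) :=
              (mul_assoc q _ _).trans ((congrArg (q * ·) cy.eq).trans (mul_assoc q _ _).symm)
        have e2 : (K.y ^ m1)⁻¹ = (c : G)⁻¹ * q⁻¹ * c * q := by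
          have : K.y ^ m1 = q⁻¹ * (c : G)⁻¹ * (q * c) := by rw [← e1]; group
          rw [this]; group
        have hy1 : K.y ^ m1 = 1 := K.mem_Q_y (by rw [← inv_inv (K.y ^ m1), e2]; exact inv_mem hq')
        rw [hy1, mul_one] at e1
        exact e1
      have hv := fix_of_comm K.F K.h c.2.1 hqQ hcq
      rw [← K.PI_val, e] at hv
      have h0 := fixed_zero hj0 hk0 ((K.comm_iff hqQ).1 hqy) hv
      have hqq : q * q = 1 := by
        rcases (K.F.vec_zero q hqQ).1 h0 with h' | h' <;> rw [h']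
        · exact one_mul 1
        · exact zz K.h
      obtain ⟨m3, hm3⟩ := Ctx.ψ_pow (g := K.zc) (g' := a * a) (by rw [map_mul]; exact haa.symm)
      change (a : G) * a = z * K.y ^ m3 at hm3
      rw [hqa, show q * K.y ^ (2 * m2) * (q * K.y ^ (2 * m2)) = q * (K.y ^ (2 * m2) * q) * K.y ^ (2 * m2) by group,
        (hqy.symm.pow_left _).eq, ← mul_assoc, hqq, one_mul, ← pow_add] at hm3
      have hzy : z = K.y ^ (2 * m2 + 2 * m2) * (K.y ^ m3)⁻¹ := by rw [hm3]; group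
      have hz3 : z ^ 3 = 1 := by
        rw [hzy, (((Commute.refl K.y).pow_pow _ _).inv_right).mul_pow, inv_pow, ← pow_mul, ← pow_mul,
          mul_comm (2 * m2 + 2 * m2), mul_comm m3, pow_mul, pow_mul, K.y3, one_pow, one_pow, inv_one, mul_one]
      exact z_ne K.h (Q_cube K.F K.h (zQ K.h) hz3)
    refine key (w * w') (by rw [map_mul]; exact hw.mul_left hw') (by rw [map_mul]; exact sww) ?_
    rw [map_mul]
    exact keeps_mul (K.pi_comm w.2.1 w.2.2) (K.pi_comm w'.2.1 w'.2.2) (key w hw sw) (key w' hw' sw')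

theorem Pl.exists_move (P : Pl K) : ∃ h : G, h * K.y * h⁻¹ = P.T := by
  obtain ⟨c, hc1, hc2⟩ := SuzT.Three.exists_move P.rot.pair
  have hcg : c * g0 * c⁻¹ = P.t := by
    have := rot0.conj c
    rw [hc1, hc2] at this
    exact this.unique P.rot
  obtain ⟨d, hd⟩ := K.F.π_surj c
  have hdz : Commute (d : G) z := mem_C.1 d.2
  have hd' : Commute ((d : G) * K.y * (d : G)⁻¹) z := (hdz.mul_left K.hyz).mul_left hdz.inv_left
  obtain ⟨k, -, e⟩ := conj_lift K.F K.h hd' P.hTz (by rw [conj_pow, K.y3]; group) P.T3 (by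
    rw [pi_conj K.F hdz K.hyz, K.piy, show K.F.π (cC hdz) = c from hd, hcg, P.piT])
  exact ⟨k * d, by rw [← e]; group⟩

theorem Pl.T_mem_comm (P : Pl K) (ht : P.t = t1 ∨ P.t = t2) : P.T ∈ ⁅K.L, K.L⁆ := by
  obtain ⟨c, hc, hc1, hc2⟩ := exchange
  have hct : c * P.t * c⁻¹ = P.t⁻¹ := by
    rcases ht with e | e <;> rw [e]
    · exact hc1
    · exact hc2
  obtain ⟨d, hd, hdy, he⟩ := K.exists_liftY hc
  have hd' : Commute (d * P.T * d⁻¹) z := (hd.mul_left P.hTz).mul_left hd.inv_left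
  have hdy' : Commute (d * P.T * d⁻¹) K.y := (hdy.mul_left P.hTy).mul_left hdy.inv_left
  obtain ⟨k, hk, e, hkv⟩ := conj_lift' K.F K.h hd' P.hTz.inv_left (by rw [conj_pow, P.T3]; group)
    (by rw [inv_pow, P.T3, inv_one]) (by rw [pi_conj K.F hd P.hTz, he, P.piT, hct, pi_inv K.F P.hTz, P.piT])
  have hky : Commute k K.y := by
    have hq : (d * P.T * d⁻¹)⁻¹ * P.T⁻¹ ∈ Q := (K.F.π_ker ((cC hd')⁻¹ * cC P.hTz.inv_left)).1 (by
      rw [map_mul, map_inv, pi_conj K.F hd P.hTz, he, P.piT, hct, pi_inv K.F P.hTz, P.piT, inv_mul_cancel])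
    have hqy := (K.comm_iff hq).1 (hdy'.inv_left.mul_left P.hTy.inv_left)
    refine (K.comm_iff hk).2 ?_
    rw [hkv]
    exact comm_inF (K.pi_comm hd' hdy') (comm_inF (K.pi_comm hd' hdy') hqy)
  have hkd : k * d ∈ K.L := commute_zp K (hky.mul_left hdy)
  have h := Subgroup.commutator_mem_commutator hkd (commute_zp K P.hTy : P.T ∈ K.L)
  rw [commutatorElement_def, show k * d * P.T * (k * d)⁻¹ * P.T⁻¹ = k * (d * P.T * d⁻¹) * k⁻¹ * P.T⁻¹ by group, e] at h
  rwa [show P.T⁻¹ * P.T⁻¹ = P.T by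
    rw [← mul_inv_rev]; exact inv_eq_of_mul_eq_one_right (by rw [← P.T3]; simp [pow_succ, mul_assoc])] at h

theorem conj_commutator_cent {h y T : G} (e : h * y * h⁻¹ = T)
    (hT : T ∈ ⁅Subgroup.centralizer ({T} : Set G), Subgroup.centralizer ({T} : Set G)⁆) :
    y ∈ ⁅Subgroup.centralizer ({y} : Set G), Subgroup.centralizer ({y} : Set G)⁆ := by
  have hle : (Subgroup.centralizer ({T} : Set G)).map (MulAut.conj h⁻¹).toMonoidHom ≤
      Subgroup.centralizer ({y} : Set G) := by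
    rintro _ ⟨g, hg, rfl⟩
    rw [Subgroup.mem_centralizer_singleton_iff]
    have hg' : g * T = T * g := Subgroup.mem_centralizer_singleton_iff.1 hg
    show h⁻¹ * g * h⁻¹⁻¹ * y = y * (h⁻¹ * g * h⁻¹⁻¹)
    rw [inv_inv, show h⁻¹ * g * h * y = h⁻¹ * (g * (h * y * h⁻¹)) * h by group, e, hg', ← e]
    group
  have h1 : (MulAut.conj h⁻¹).toMonoidHom T ∈
      (⁅Subgroup.centralizer ({T} : Set G), Subgroup.centralizer ({T} : Set G)⁆).map (MulAut.conj h⁻¹).toMonoidHom :=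
    Subgroup.mem_map_of_mem _ hT
  rw [Subgroup.map_commutator] at h1
  have h2 := Subgroup.commutator_mono hle hle h1
  rwa [show (MulAut.conj h⁻¹).toMonoidHom T = y by rw [← e]; simp [mul_assoc]] at h2

theorem comm_mem {t A B : G} (e : t = ⁅A, B⁆) (hA : Commute A t) (hB : Commute B t) :
    t ∈ ⁅Subgroup.centralizer ({t} : Set G), Subgroup.centralizer ({t} : Set G)⁆ := by
  have := Subgroup.commutator_mem_commutator (Subgroup.mem_centralizer_singleton_iff.2 hA.eq)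
    (Subgroup.mem_centralizer_singleton_iff.2 hB.eq :
      B ∈ Subgroup.centralizer ({t} : Set G))
  rwa [← e] at this

theorem L_eq (K : Ctx z Q) : K.L = Subgroup.centralizer ({K.y} : Set G) := by
  ext g
  rw [Subgroup.mem_centralizer_singleton_iff]
  exact ⟨fun h => of_mem_cent K h, fun h => commute_zp K h⟩

set_option maxHeartbeats 1000000 in
/-- the main point -/
theorem Ctx.y_mem_comm (K : Ctx z Q) : K.y ∈ ⁅K.L, K.L⁆ := by
  obtain ⟨P1, P2, ht1, ht2, o⟩ := K.exists_planes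
  let D : Pair2 K := ⟨P1, P2, ht1, ht2, o⟩
  obtain ⟨F⟩ := K.frame D
  obtain ⟨u, w, w', a, b, hu3, hu1, hus, hwu, hwu', hw2, hw2', hww, hau, hbu, hab⟩ := F.witness K.zb K.zb_ord
  have memH : ∀ {x : K.L ⧸ K.P}, Commute x K.zb → ∃ c : K.CY, (K.ψ c : K.L ⧸ K.P) = x := fun {x} hx => by
    obtain ⟨c, hc⟩ := K.ψ_surj ⟨x, Subgroup.mem_centralizer_singleton_iff.2 hx⟩
    exact ⟨c, congrArg Subtype.val hc⟩
  have hwz : Commute w K.zb := hw2 ▸ (Commute.refl w).mul_right (Commute.refl w)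
  have hwz' : Commute w' K.zb := hw2' ▸ (Commute.refl w').mul_right (Commute.refl w')
  obtain ⟨c, rfl⟩ := memH hus
  obtain ⟨cw, rfl⟩ := memH hwz
  obtain ⟨cw', rfl⟩ := memH hwz'
  obtain ⟨P, hP, i, j, hj, hc3, hπc⟩ := D.one_kind (c := c) (w := cw) (w' := cw') (Subtype.ext hu3)
    (fun e => hu1 (congrArg Subtype.val e)) (Subtype.ext hwu) (Subtype.ext hwu') (Subtype.ext hw2) (Subtype.ext hw2')
    (Subtype.ext hww)
  set d := K.y ^ i * P.T ^ j with hd
  have hdz : Commute d z := (K.hyz.pow_left i).mul_left (P.hTz.pow_left j)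
  have hdy : Commute d K.y := ((Commute.refl K.y).pow_left i).mul_left (P.hTy.pow_left j)
  have hd3 : d ^ 3 = 1 := by
    rw [hd, (P.hTy.symm.pow_pow i j).mul_pow, ← pow_mul, ← pow_mul, mul_comm i, mul_comm j, pow_mul, pow_mul, K.y3,
      P.T3, one_pow, one_pow, one_mul]
  have hπd : K.F.π (cC hdz) = K.PI c := by
    rw [hπc, π_mul K.F (K.hyz.pow_left i) (P.hTz.pow_left j), pi_pow K.F K.hyz, pi_pow K.F P.hTz, K.piy, P.piT]
  obtain ⟨k, hk, hkd, hkv⟩ := conj_lift' K.F K.h hdz c.2.1 hd3 hc3 hπd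
  have hky : Commute k K.y := by
    have hq : d⁻¹ * (c : G) ∈ Q := (K.F.π_ker ((cC hdz)⁻¹ * cC c.2.1)).1 (by
      rw [map_mul, map_inv, hπd, ← K.PI_val, inv_mul_cancel])
    refine (K.comm_iff hk).2 ?_
    rw [hkv]
    exact comm_inF (K.pi_comm hdz hdy) (comm_inF (K.pi_comm hdz hdy) ((K.comm_iff hq).1 (hdy.inv_left.mul_left c.2.2)))
  obtain ⟨⟨A, hA⟩, rfl⟩ := QuotientGroup.mk'_surjective K.P a
  obtain ⟨⟨B, hB⟩, rfl⟩ := QuotientGroup.mk'_surjective K.P b
  -- commuting and commutator, lifted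
  have hA' : Commute (k⁻¹ * A * k) K.y := (hky.inv_left.mul_left (of_mem_cent K hA)).mul_left hky
  have hB' : Commute (k⁻¹ * B * k) K.y := (hky.inv_left.mul_left (of_mem_cent K hB)).mul_left hky
  by_contra hy
  set L1 := ⁅K.L, K.L⁆ with hL1
  have hyp : ∀ {n : ℕ}, K.y ^ n ∈ L1 → K.y ^ n = 1 := fun {n} hn => by
    have hlt := Nat.mod_lt n (show 0 < 3 by norm_num)
    have e : K.y ^ n = K.y ^ (n % 3) := by
      conv_lhs => rw [← Nat.div_add_mod n 3, pow_add, pow_mul, K.y3, one_pow, one_mul]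
    rw [e] at hn ⊢
    interval_cases (n % 3)
    · exact pow_zero _
    · exact absurd (pow_one K.y ▸ hn) hy
    · exfalso
      have := pow_mem hn 2
      rw [← pow_mul, show 2 * 2 = 3 + 1 by norm_num, pow_succ, K.y3, one_mul] at this
      exact hy this
  have hlift : ∀ {x y' : G} (hx : x ∈ K.L) (hy' : y' ∈ K.L), K.pr ⟨x, hx⟩ = K.pr ⟨y', hy'⟩ →
      ∃ n, y' = x * K.y ^ n := by
    intro x y' hx hy' e
    obtain ⟨n, -, hn⟩ := K.exists_nat (Subgroup.mem_subgroupOf.1 (QuotientGroup.eq.1 e))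
    change x⁻¹ * y' = K.y ^ n at hn
    exact ⟨n, by rw [← hn]; group⟩
  have hTj : P.T ^ j ∈ L1 := pow_mem (P.T_mem_comm hP) j
  have hck : k⁻¹ * (c : G) * k = K.y ^ i * P.T ^ j := by rw [← hkd, hd]; group
  have commT : ∀ {X : G} (hX : X ∈ K.L), Commute (K.pr ⟨X, hX⟩) (K.pr ⟨c, commute_zp K c.2.2⟩) →
      Commute (k⁻¹ * X * k) (P.T ^ j) := by
    intro X hX he
    have hXy := of_mem_cent K hX
    rw [commute_iff_eq, ← map_mul, ← map_mul] at he
    obtain ⟨n, hn⟩ := hlift _ _ he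
    change (c : G) * X = X * c * K.y ^ n at hn
    set X' := k⁻¹ * X * k with hX'
    have hX'y : Commute X' K.y := (hky.inv_left.mul_left hXy).mul_left hky
    have h1 : k⁻¹ * ((c : G) * X) * k = k⁻¹ * (c : G) * k * X' := by rw [hX']; group
    have h2 : k⁻¹ * (X * c * K.y ^ n) * k = X' * (k⁻¹ * (c : G) * k) * K.y ^ n := by
      rw [show k⁻¹ * (X * c * K.y ^ n) * k = X' * (k⁻¹ * (c : G) * k) * (k⁻¹ * K.y ^ n * k) by rw [hX']; group,
        show k⁻¹ * K.y ^ n * k = K.y ^ n by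
          rw [mul_assoc, ← (hky.pow_right n).eq, inv_mul_cancel_left]]
    rw [hn, h2, hck] at h1
    have h3 : X' * P.T ^ j * K.y ^ n = P.T ^ j * X' := by
      refine mul_left_cancel (a := K.y ^ i) ?_
      rw [← mul_assoc (K.y ^ i) (P.T ^ j) X', ← h1, ← mul_assoc, ← mul_assoc, (hX'y.symm.pow_left i).eq,
        mul_assoc X']
    have hn1 : K.y ^ n = 1 := hyp (by
      have h4 : K.y ^ n = (P.T ^ j)⁻¹ * (X'⁻¹ * P.T ^ j * X'⁻¹⁻¹) := by
        rw [inv_inv, mul_assoc X'⁻¹, ← h3]; group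
      rw [h4]
      refine mul_mem (inv_mem hTj) ?_
      have hc := mul_mem (Subgroup.commutator_mem_commutator (commute_zp K hX'y.inv_left : X'⁻¹ ∈ K.L)
        (commute_zp K (P.hTy.pow_left j) : P.T ^ j ∈ K.L)) hTj
      rwa [commutatorElement_def, inv_mul_cancel_right] at hc)
    rw [hn1, mul_one] at h3
    exact h3
  have cA := commT hA hau
  have cB := commT hB hbu
  have hu : (K.ψ c : K.L ⧸ K.P) = K.pr ⟨c, commute_zp K c.2.2⟩ := rfl
  rw [hu, ← map_mul, ← map_mul, ← map_mul] at hab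
  obtain ⟨n, hn⟩ := hlift _ _ hab.symm
  change A * B = (c : G) * (B * A) * K.y ^ n at hn
  set A' := k⁻¹ * A * k
  set B' := k⁻¹ * B * k
  have hcom : ⁅A', B'⁆ = K.y ^ i * P.T ^ j * K.y ^ n := by
    have hy' : k⁻¹ * K.y ^ n * k = K.y ^ n := by
      rw [mul_assoc, ← (hky.pow_right n).eq, inv_mul_cancel_left]
    have e1 : A' * B' = (k⁻¹ * (c : G) * k) * (B' * A') * (k⁻¹ * K.y ^ n * k) := by
      rw [show A' * B' = k⁻¹ * (A * B) * k by simp only [A', B']; group, hn]; simp only [A', B']; group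
    rw [hck, hy'] at e1
    have cyn : Commute (B' * A') (K.y ^ n) := (hB'.mul_left hA').pow_right n
    rw [commutatorElement_def, e1, mul_assoc _ (B' * A') (K.y ^ n), cyn.eq]
    group
  have hjy : K.y ^ (i + n) = 1 := hyp (by
    have h1 : ⁅A', B'⁆ ∈ L1 := Subgroup.commutator_mem_commutator (commute_zp K hA' : A' ∈ K.L) (commute_zp K hB' : B' ∈ K.L)
    rw [hcom] at h1
    have h2 := mul_mem h1 (inv_mem hTj)
    rwa [mul_assoc (K.y ^ i), (P.hTy.pow_pow j n).eq, ← mul_assoc, mul_inv_cancel_right, ← pow_add] at h2)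
  have hTc : P.T ^ j ∈ ⁅Subgroup.centralizer ({P.T ^ j} : Set G), Subgroup.centralizer ({P.T ^ j} : Set G)⁆ := by
    have e : P.T ^ j = ⁅A', B'⁆ := by
      rw [hcom, mul_assoc (K.y ^ i), (P.hTy.pow_pow j n).eq, ← mul_assoc, ← pow_add, hjy, one_mul]
    exact comm_mem e cA cB
  obtain ⟨h, he⟩ := P.exists_move
  have hy2 : K.y ^ j ∈ ⁅Subgroup.centralizer ({K.y ^ j} : Set G), Subgroup.centralizer ({K.y ^ j} : Set G)⁆ :=
    conj_commutator_cent (h := h) (by rw [← conj_pow, he]) hTc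
  have hcy : Subgroup.centralizer ({K.y ^ j} : Set G) = K.L := by
    ext g
    rw [Subgroup.mem_centralizer_singleton_iff]
    refine ⟨fun hg => commute_zp K ?_, fun hg => ((of_mem_cent K hg).pow_right j).eq⟩
    have : Commute g ((K.y ^ j) ^ j) := (show Commute g (K.y ^ j) from hg).pow_right j
    rwa [← pow_mul, show j * j = 3 * ((j * j) / 3) + 1 by
      have h1 : j * j % 3 = 1 := by
        rw [Nat.mul_mod]
        have := Nat.mod_lt j (show 0 < 3 by norm_num)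
        interval_cases (j % 3) <;> simp_all
      omega, pow_succ, pow_mul, K.y3, one_pow, one_mul] at this
  rw [hcy] at hy2
  have h1 := hyp hy2
  have h2 : orderOf K.y ∣ j := orderOf_dvd_of_pow_eq_one h1
  rw [orderOf_eq_prime K.y3 K.y_ne] at h2
  omega

end Cfsg.Agent.Spor.SuzT.Three
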