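import Cfsg.Agent.Lib.Spor.SuzY.Groups
import Cfsg.Agent.Lib.Fusion.LocalConstrained

/-!
Groups of Suzuki sporadic type: the centraliser of the image of the central involution in the quotient of the
centraliser of an element of order three of the first kind by that element.
-/

set_option autoImplicit false
set_option maxRecDepth 100000
set_option linter.unusedSectionVars false

namespace Cfsg.Agent.Spor.SuzT.Three

universe u

variable {G : Type u} [Group G] [Finite G] {z : G} {Q : Subgroup G} (K : Ctx z Q)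

theorem commute_zp {g : G} (h : Commute g K.y) : g ∈ Subgroup.centralizer (Subgroup.zpowers K.y : Set G) :=
  Subgroup.mem_centralizer_iff.2 fun a ha => by
    obtain ⟨i, rfl⟩ := Subgroup.mem_zpowers_iff.1 ha
    exact ((h.zpow_right i).eq).symm

theorem of_mem_cent {g : G} (h : g ∈ Subgroup.centralizer (Subgroup.zpowers K.y : Set G)) : Commute g K.y :=
  (Subgroup.mem_centralizer_iff.1 h K.y (Subgroup.mem_zpowers _)).symm

/-- the centraliser of the element of order three -/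
abbrev Ctx.L : Subgroup G := Subgroup.centralizer (Subgroup.zpowers K.y : Set G)

/-- the cyclic subgroup inside its centraliser -/
abbrev Ctx.P : Subgroup K.L := (Subgroup.zpowers K.y).subgroupOf K.L

instance Ctx.P_normal : K.P.Normal := ⟨fun n hn g => by
  have hc : Commute (g : G) (n : G) := ((Subgroup.mem_centralizer_iff.1 g.2) _ (Subgroup.mem_subgroupOf.1 hn)).symm
  rw [show g * n * g⁻¹ = n from Subtype.ext (by
    show (g : G) * n * (g : G)⁻¹ = n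
    rw [hc.eq, mul_inv_cancel_right])]
  exact hn⟩

/-- the projection -/
abbrev Ctx.pr : K.L →* K.L ⧸ K.P := QuotientGroup.mk' K.P

/-- the image of the central involution -/
noncomputable def Ctx.zb : K.L ⧸ K.P := K.pr ⟨z, commute_zp K K.hyz.symm⟩

/-- the centraliser of the image of the involution -/
abbrev Ctx.H : Subgroup (K.L ⧸ K.P) := Subgroup.centralizer ({K.zb} : Set (K.L ⧸ K.P))

/-- the common centraliser -/
def Ctx.CY : Subgroup G where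
  carrier := {g | Commute g z ∧ Commute g K.y}
  one_mem' := ⟨Commute.one_left _, Commute.one_left _⟩
  mul_mem' := fun ha hb => ⟨ha.1.mul_left hb.1, ha.2.mul_left hb.2⟩
  inv_mem' := fun ha => ⟨ha.1.inv_left, ha.2.inv_left⟩

theorem pow_y_mem (i : ℤ) : K.y ^ i ∈ K.CY := zpow_mem (show K.y ∈ K.CY from ⟨K.hyz, Commute.refl _⟩) i

theorem Ctx.exists_nat {g : G} (h : g ∈ Subgroup.zpowers K.y) : ∃ i : ℕ, i < 3 ∧ g = K.y ^ i := by
  obtain ⟨n, rfl⟩ := (mem_powers_iff_mem_zpowers).2 h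
  refine ⟨n % 3, Nat.mod_lt _ (by norm_num), ?_⟩
  show K.y ^ n = _
  conv_lhs => rw [← Nat.div_add_mod n 3, pow_add, pow_mul, K.y3, one_pow, one_mul]

theorem Ctx.mem_Q_y {i : ℕ} (h : K.y ^ i ∈ Q) : K.y ^ i = 1 :=
  Q_cube K.F K.h h (by rw [← pow_mul, mul_comm, pow_mul, K.y3, one_pow])

/-- the map onto the centraliser in the quotient -/
noncomputable def Ctx.ψ : K.CY →* K.H :=
  (K.pr.comp (Subgroup.inclusion (fun g (hg : g ∈ K.CY) => commute_zp K hg.2))).codRestrict _ fun g =>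
    Subgroup.mem_centralizer_singleton_iff.2 (by
      show _ * K.zb = K.zb * _
      rw [Ctx.zb, MonoidHom.comp_apply, ← map_mul, ← map_mul]
      exact congrArg K.pr (Subtype.ext g.2.1.eq))

theorem Ctx.ψ_val (g : K.CY) : (K.ψ g : K.L ⧸ K.P) = K.pr ⟨g, commute_zp K g.2.2⟩ := rfl

theorem Ctx.ψ_eq {g g' : K.CY} : K.ψ g = K.ψ g' ↔ (g : G)⁻¹ * g' ∈ Subgroup.zpowers K.y := by
  rw [Subtype.ext_iff, K.ψ_val, K.ψ_val]
  exact QuotientGroup.eq.trans Subgroup.mem_subgroupOf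

theorem Ctx.ψ_one {g : K.CY} : K.ψ g = 1 ↔ (g : G) ∈ Subgroup.zpowers K.y := by
  rw [eq_comm, ← map_one K.ψ, K.ψ_eq, show ((1 : K.CY) : G)⁻¹ * (g : G) = (g : G) by simp]

theorem Ctx.ψ_surj : Function.Surjective K.ψ := by
  rintro ⟨x, hx⟩
  obtain ⟨⟨c, hc⟩, rfl⟩ := QuotientGroup.mk'_surjective K.P x
  have hcy := of_mem_cent K hc
  have e := Subgroup.mem_centralizer_singleton_iff.1 hx
  rw [Ctx.zb, ← map_mul, ← map_mul] at e
  obtain ⟨i, -, hi⟩ := K.exists_nat (Subgroup.mem_subgroupOf.1 (QuotientGroup.eq.1 e))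
  change (c * z)⁻¹ * (z * c) = K.y ^ i at hi
  have hzc : c⁻¹ * z * c = z * K.y ^ i := by
    rw [← hi, show z * ((c * z)⁻¹ * (z * c)) = z * z⁻¹ * (c⁻¹ * z * c) by group, mul_inv_cancel, one_mul]
  have h2 : K.y ^ i * K.y ^ i = 1 := by
    have : c⁻¹ * z * c * (c⁻¹ * z * c) = z * K.y ^ i * (z * K.y ^ i) := by rw [hzc]
    rw [show c⁻¹ * z * c * (c⁻¹ * z * c) = c⁻¹ * (z * z) * c by group, zz K.h,
      show z * K.y ^ i * (z * K.y ^ i) = z * (K.y ^ i * z) * K.y ^ i by group, (K.hyz.pow_left i).eq, ← mul_assoc,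
      zz K.h, one_mul] at this
    rw [← this]; group
  have hyi : K.y ^ i = 1 := by
    have h3 : (K.y ^ i) ^ 3 = 1 := by rw [← pow_mul, mul_comm, pow_mul, K.y3, one_pow]
    rw [pow_succ, pow_two, h2, one_mul] at h3
    exact h3
  rw [hyi, mul_one] at hzc
  have hcz : Commute c z := by
    show c * z = z * c
    conv_lhs => rw [← hzc]
    group
  exact ⟨⟨c, hcz, hcy⟩, Subtype.ext rfl⟩

/-- the action on the extraspecial subgroup -/
noncomputable def Ctx.PI : K.CY →* Ga :=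
  K.F.π.comp (Subgroup.inclusion fun _ hg => mem_C.2 hg.1)

theorem Ctx.PI_val (g : K.CY) : K.PI g = K.F.π (cC g.2.1) := rfl

theorem Ctx.PI_range : K.PI.range = C0 := by
  ext c
  rw [mem_C0]
  constructor
  · rintro ⟨g, rfl⟩; exact K.pi_comm g.2.1 g.2.2
  · intro hc
    obtain ⟨d, hd, hdy, e⟩ := K.exists_liftY hc
    exact ⟨⟨d, hd, hdy⟩, e⟩

theorem Ctx.card_H : Nat.card K.H = 1152 := by
  have hk : Nat.card K.PI.ker = 32 := by
    rw [← K.card_CQ]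
    refine Nat.card_congr ⟨fun g => ⟨(g : K.CY), (K.F.π_ker _).1 g.2, (g : K.CY).2.2⟩,
      fun a => ⟨⟨a, Qz K.h a.2.1, a.2.2⟩, π_Q K.F K.h a.2.1⟩, fun g => ?_, fun a => ?_⟩ <;> rfl
  have h1 := Subgroup.card_eq_card_quotient_mul_card_subgroup K.PI.ker
  rw [Nat.card_congr (QuotientGroup.quotientKerEquivRange K.PI).toEquiv, K.PI_range, card_C0, hk] at h1
  have hψ : Nat.card K.ψ.ker = 3 := by
    have e : Nat.card (Subgroup.zpowers K.y) = 3 := by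
      rw [Nat.card_zpowers]; exact orderOf_eq_prime K.y3 K.y_ne
    rw [← e]
    exact Nat.card_congr ⟨fun g => ⟨(g : K.CY), K.ψ_one.1 g.2⟩, fun a => ⟨⟨a, by
      obtain ⟨i, hi⟩ := Subgroup.mem_zpowers_iff.1 a.2
      rw [← hi]; exact pow_y_mem K i⟩, K.ψ_one.2 a.2⟩, fun g => rfl, fun a => rfl⟩
  have h2 := Subgroup.card_eq_card_quotient_mul_card_subgroup K.ψ.ker
  rw [Nat.card_congr (QuotientGroup.quotientKerEquivOfSurjective K.ψ K.ψ_surj).toEquiv, hψ, h1] at h2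
  omega

/-- image of a subgroup -/
noncomputable def Ctx.img (S : Subgroup G) : Subgroup K.H := (S.subgroupOf K.CY).map K.ψ

theorem Ctx.mem_img {S : Subgroup G} (hS : S ≤ K.CY) {g : G} (hg : g ∈ S) : K.ψ ⟨g, hS hg⟩ ∈ K.img S :=
  ⟨⟨g, hS hg⟩, hg, rfl⟩

theorem Ctx.img_iso {S : Subgroup G} (hS : S ≤ K.CY) (h1 : ∀ g ∈ S, g ∈ Subgroup.zpowers K.y → g = 1) :
    Nonempty (K.img S ≃* S) := by
  let f : S →* K.H := K.ψ.comp (Subgroup.inclusion hS)
  have hf : Function.Injective f := (injective_iff_map_eq_one f).2 fun a ha =>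
    Subtype.ext (h1 a a.2 (K.ψ_one.1 ha))
  have e : K.img S = f.range := by
    ext x
    constructor
    · rintro ⟨a, ha, rfl⟩; exact ⟨⟨a, ha⟩, Subtype.ext rfl⟩
    · rintro ⟨a, rfl⟩; exact K.mem_img hS a.2
  exact ⟨(MulEquiv.subgroupCongr e).trans (MonoidHom.ofInjective hf).symm⟩

theorem Pl.S_le_CY {K : Ctx z Q} (P : Pl K) : P.S ≤ K.CY := fun _ hg => P.S_comm hg

theorem Ctx.CQ_le : K.CQ ≤ K.CY := fun _ ha => ⟨Qz K.h ha.1, ha.2⟩

/-- the two planes -/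
structure Pair2 where
  P : Pl K
  P' : Pl K
  ht : P.t = t1
  ht' : P'.t = t2
  o : Orth P P'

variable {K} (D : Pair2 K)

theorem e3_zero {i j k : ℕ} (h : e3 i j k = 1) : i % 3 = 0 ∧ j % 3 = 0 ∧ k % 3 = 0 := by
  have red : ∀ {g : Ga}, g ^ 3 = 1 → ∀ n : ℕ, g ^ n = g ^ (n % 3) := fun {g} hg n => by
    conv_lhs => rw [← Nat.div_add_mod n 3, pow_add, pow_mul, hg, one_pow, one_mul]
  obtain ⟨a1, -, a3, -, a5, -⟩ := e3_act i j k
  rw [h, one_smul] at a1 a3 a5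
  rw [red rot0.cube] at a1
  rw [red rot1.cube] at a3
  rw [red rot2.cube] at a5
  exact ⟨(pow_inj rot0 (by norm_num) (Nat.mod_lt _ (by norm_num)) (show g0 ^ 0 • va = _ by rwa [pow_zero, one_smul])).symm,
    (pow_inj rot1 (by norm_num) (Nat.mod_lt _ (by norm_num)) (show t1 ^ 0 • v5 = _ by rwa [pow_zero, one_smul])).symm,
    (pow_inj rot2 (by norm_num) (Nat.mod_lt _ (by norm_num)) (show t2 ^ 0 • v10 = _ by rwa [pow_zero, one_smul])).symm⟩

theorem mem_R_one {P : Pl K} {g : G} (hg : g ∈ P.R) (h3 : g ^ 3 = 1) : g = 1 := Q_cube K.F K.h hg.1 h3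

theorem Pair2.split {g : G} (hz : Commute g z) (hy : Commute g K.y) (hN : K.F.π (cC hz) ∈ N3) :
    ∃ s ∈ D.P.S, ∃ s' ∈ D.P'.S, g⁻¹ * (s * s') ∈ Subgroup.zpowers K.y := by
  obtain ⟨i, -, j, -, k, -, e⟩ := N3_eq hN
  set w := K.y ^ i * D.P.T ^ j * D.P'.T ^ k with hw
  have hwz : Commute w z := ((K.hyz.pow_left i).mul_left (D.P.hTz.pow_left j)).mul_left (D.P'.hTz.pow_left k)
  have hπw : K.F.π (cC hwz) = e3 i j k := by
    rw [pi_congr K.F hwz (((K.hyz.pow_left i).mul_left (D.P.hTz.pow_left j)).mul_left (D.P'.hTz.pow_left k)) rfl,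
      π_mul K.F ((K.hyz.pow_left i).mul_left (D.P.hTz.pow_left j)) (D.P'.hTz.pow_left k),
      π_mul K.F (K.hyz.pow_left i) (D.P.hTz.pow_left j), pi_pow K.F K.hyz, pi_pow K.F D.P.hTz,
      pi_pow K.F D.P'.hTz, K.piy, D.P.piT, D.P'.piT, D.ht, D.ht', e3]
  have haQ : g * w⁻¹ ∈ Q := (K.F.π_ker (cC hz * (cC hwz)⁻¹)).1 (by rw [map_mul, map_inv, hπw, e, mul_inv_cancel])
  have hwy : Commute w K.y :=
    (((Commute.refl K.y).pow_left i).mul_left (D.P.hTy.pow_left j)).mul_left (D.P'.hTy.pow_left k)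
  obtain ⟨r, hr, r', hr', hrr⟩ := D.o.decomp haQ (hy.mul_left hwy.inv_left)
  refine ⟨r * D.P.T ^ j, ⟨r, hr, j, rfl⟩, r' * D.P'.T ^ k, ⟨r', hr', k, rfl⟩, ?_⟩
  have hs : Commute (K.y ^ i) (r * D.P.T ^ j * (r' * D.P'.T ^ k)) :=
    (((D.P.S_comm ⟨r, hr, j, rfl⟩).2.symm).mul_right ((D.P'.S_comm ⟨r', hr', k, rfl⟩).2.symm)).pow_left i
  have hg : g = r * D.P.T ^ j * (r' * D.P'.T ^ k) * K.y ^ i := by
    have h1 : D.P.T ^ j * r' = r' * D.P.T ^ j :=
      ((T_comm_R D.o.fixa D.o.fixb hr').pow_left j).eq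
    have hyr : Commute (K.y ^ i) (r * r') :=
      (((D.P.S_comm (D.P.R_le hr)).2.symm).mul_right ((D.P'.S_comm (D.P'.R_le hr')).2.symm)).pow_left i
    calc g = g * w⁻¹ * w := by group
      _ = r * r' * K.y ^ i * D.P.T ^ j * D.P'.T ^ k := by rw [hrr, hw]; group
      _ = K.y ^ i * (r * (r' * D.P.T ^ j) * D.P'.T ^ k) := by rw [← hyr.eq]; group
      _ = K.y ^ i * (r * D.P.T ^ j * (r' * D.P'.T ^ k)) := by rw [← h1]; group
      _ = _ := hs.eq
  rw [hg]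
  rw [show (r * D.P.T ^ j * (r' * D.P'.T ^ k) * K.y ^ i)⁻¹ * (r * D.P.T ^ j * (r' * D.P'.T ^ k)) =
    (K.y ^ i)⁻¹ by group]
  exact inv_mem (pow_mem (Subgroup.mem_zpowers _) i)

/-- first factor -/
noncomputable def Pair2.H1 : Subgroup K.H := K.img D.P.S

/-- second factor -/
noncomputable def Pair2.H2 : Subgroup K.H := K.img D.P'.S

theorem Pair2.mem_of_PI {g : K.CY} (h : K.PI g ∈ N3) : K.ψ g ∈ D.H1 ⊔ D.H2 := by
  obtain ⟨s, hs, s', hs', e⟩ := D.split g.2.1 g.2.2 h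
  have e' : K.ψ g = K.ψ (⟨s, D.P.S_le_CY hs⟩ * ⟨s', D.P'.S_le_CY hs'⟩) := K.ψ_eq.2 e
  rw [e', map_mul]
  exact mul_mem (Subgroup.mem_sup_left (K.mem_img _ hs)) (Subgroup.mem_sup_right (K.mem_img _ hs'))

theorem Pl.PI_S (P : Pl K) (hN : P.t ∈ N3) {g : K.CY} (hg : (g : G) ∈ P.S) : K.PI g ∈ N3 := by
  obtain ⟨r, hr, i, e⟩ := hg
  have h := (P.S_comm ⟨r, hr, i, rfl⟩).1
  rw [K.PI_val, pi_congr K.F g.2.1 h e, P.pi_S hr i]
  exact pow_mem hN i

/-- the preimage of the product -/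
noncomputable def Ctx.N0 (K : Ctx z Q) : Subgroup K.CY := N3.comap K.PI

theorem t_mem : t1 ∈ N3 ∧ t2 ∈ N3 := by
  constructor <;> rw [mem_N3]
  · exact ⟨comm_g_t1.symm, Commute.refl _, comm_t1_t2⟩
  · exact ⟨comm_g_t2.symm, comm_t1_t2.symm, Commute.refl _⟩

theorem Pair2.join : D.H1 ⊔ D.H2 = K.N0.map K.ψ := by
  refine le_antisymm (sup_le ?_ ?_) ?_
  · rintro _ ⟨g, hg, rfl⟩; exact ⟨g, D.P.PI_S (D.ht ▸ t_mem.1) hg, rfl⟩
  · rintro _ ⟨g, hg, rfl⟩; exact ⟨g, D.P'.PI_S (D.ht' ▸ t_mem.2) hg, rfl⟩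
  · rintro _ ⟨g, hg, rfl⟩; exact D.mem_of_PI hg

theorem Pair2.odd_closure : D.H1 ⊔ D.H2 = Subgroup.closure {x : K.H | Odd (orderOf x)} := by
  refine le_antisymm (sup_le ?_ ?_) ((Subgroup.closure_le _).2 fun x hx => ?_)
  rotate_left 2
  · obtain ⟨g, rfl⟩ := K.ψ_surj x
    rw [Set.mem_setOf_eq] at hx
    refine D.mem_of_PI (odd_mem (K.pi_comm g.2.1 g.2.2) ?_)
    set n := orderOf (K.ψ g) with hn
    have h1 : (g : G) ^ n ∈ Subgroup.zpowers K.y := by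
      rw [← SubmonoidClass.coe_pow, ← K.ψ_one, map_pow, hn, pow_orderOf_eq_one]
    obtain ⟨i, -, hi⟩ := K.exists_nat h1
    have h2 : g ^ (n * 3) = 1 := Subtype.ext (by
      rw [SubmonoidClass.coe_pow, pow_mul, hi, ← pow_mul, mul_comm, pow_mul, K.y3, one_pow]; rfl)
    have h3 : orderOf (K.PI g) ∣ n * 3 := (orderOf_map_dvd _ _).trans (orderOf_dvd_of_pow_eq_one h2)
    exact Odd.of_dvd_nat (hx.mul (by decide)) h3
  all_goals
    rintro _ ⟨g, hg, rfl⟩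
  · have := D.P.S_le (M := ((Subgroup.closure {x : K.H | Odd (orderOf x)}).comap K.ψ).map K.CY.subtype)
      (fun a ha h3 => ⟨⟨a, D.P.S_le_CY ha⟩, Subgroup.subset_closure (by
        show Odd (orderOf _)
        refine Odd.of_dvd_nat (n := 3) (by decide) (orderOf_dvd_of_pow_eq_one ?_)
        rw [← map_pow, show (⟨a, D.P.S_le_CY ha⟩ : K.CY) ^ 3 = 1 from Subtype.ext h3, map_one]), rfl⟩) hg
    obtain ⟨g', hg', e⟩ := this
    rwa [show g = g' from (Subtype.ext e).symm]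
  · have := D.P'.S_le (M := ((Subgroup.closure {x : K.H | Odd (orderOf x)}).comap K.ψ).map K.CY.subtype)
      (fun a ha h3 => ⟨⟨a, D.P'.S_le_CY ha⟩, Subgroup.subset_closure (by
        show Odd (orderOf _)
        refine Odd.of_dvd_nat (n := 3) (by decide) (orderOf_dvd_of_pow_eq_one ?_)
        rw [← map_pow, show (⟨a, D.P'.S_le_CY ha⟩ : K.CY) ^ 3 = 1 from Subtype.ext h3, map_one]), rfl⟩) hg
    obtain ⟨g', hg', e⟩ := this
    rwa [show g = g' from (Subtype.ext e).symm]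

theorem Pair2.comm12 {x y : K.H} (hx : x ∈ D.H1) (hy : y ∈ D.H2) : Commute x y := by
  obtain ⟨g, hg, rfl⟩ := hx
  obtain ⟨g', hg', rfl⟩ := hy
  exact (show Commute g g' from Subtype.ext (D.o.S_comm hg hg').eq).map K.ψ

theorem Pair2.normal1 : (D.H1.subgroupOf (D.H1 ⊔ D.H2)).Normal :=
  (Subgroup.normal_subgroupOf_iff_le_normalizer le_sup_left).2 (sup_le Subgroup.le_normalizer
    fun y hy => Subgroup.centralizer_le_normalizer _ (Subgroup.mem_centralizer_iff.2 fun x hx => (D.comm12 hx hy).eq))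

theorem Pair2.normal2 : (D.H2.subgroupOf (D.H1 ⊔ D.H2)).Normal :=
  (Subgroup.normal_subgroupOf_iff_le_normalizer le_sup_right).2 (sup_le
    (fun x hx => Subgroup.centralizer_le_normalizer _
      (Subgroup.mem_centralizer_iff.2 fun y hy => (D.comm12 hx hy).eq.symm)) Subgroup.le_normalizer)

theorem Pl.inj_y (P : Pl K) (h : ∀ (i j : ℕ), P.t ^ i = g0 ^ j → i % 3 = 0) :
    ∀ g ∈ P.S, g ∈ Subgroup.zpowers K.y → g = 1 := by
  rintro g ⟨r, hr, i, rfl⟩ hy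
  obtain ⟨j, -, e⟩ := K.exists_nat hy
  have hz := (P.S_comm ⟨r, hr, i, rfl⟩).1
  have hπ : P.t ^ i = g0 ^ j := by
    rw [← P.pi_S hr i hz, pi_congr K.F hz (K.hyz.pow_left j) e, pi_pow K.F K.hyz, K.piy]
  have hi := h i j hπ
  have hT : P.T ^ i = 1 := by
    rw [← Nat.div_add_mod i 3, hi, add_zero, pow_mul, P.T3, one_pow]
  rw [hT, mul_one] at e ⊢
  rw [e]; exact K.mem_Q_y (e ▸ hr.1)

theorem sep1 (i j : ℕ) (h : t1 ^ i = g0 ^ j) : i % 3 = 0 := by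
  have e : e3 (2 * j) i 0 = 1 := by
    rw [e3, h, pow_zero, mul_one, ← pow_add, show 2 * j + j = 3 * j by ring, pow_mul, rot0.cube, one_pow]
  exact (e3_zero e).2.1

theorem sep2 (i j : ℕ) (h : t2 ^ i = g0 ^ j) : i % 3 = 0 := by
  have e : e3 (2 * j) 0 i = 1 := by
    rw [e3, h, pow_zero, mul_one, ← pow_add, show 2 * j + j = 3 * j by ring, pow_mul, rot0.cube, one_pow]
  exact (e3_zero e).2.2

theorem Pair2.iso1 : Nonempty (D.H1 ≃* Matrix.SpecialLinearGroup (Fin 2) (ZMod 3)) := by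
  obtain ⟨e⟩ := K.img_iso D.P.S_le_CY (D.P.inj_y fun i j h => sep1 i j (by rwa [← D.ht]))
  obtain ⟨f⟩ := D.P.iso
  exact ⟨e.trans f⟩

theorem Pair2.iso2 : Nonempty (D.H2 ≃* Matrix.SpecialLinearGroup (Fin 2) (ZMod 3)) := by
  obtain ⟨e⟩ := K.img_iso D.P'.S_le_CY (D.P'.inj_y fun i j h => sep2 i j (by rwa [← D.ht']))
  obtain ⟨f⟩ := D.P'.iso
  exact ⟨e.trans f⟩

theorem Pl.z_mem (P : Pl K) : z ∈ P.R :=
  ⟨zQ K.h, by rw [(K.F.vec_zero z (zQ K.h)).2 (Or.inr rfl)]; exact Set.mem_insert _ _⟩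

/-- the central involution inside the common centraliser -/
def Ctx.zc (K : Ctx z Q) : K.CY := ⟨z, Commute.refl z, K.hyz.symm⟩

theorem Pair2.meet_set {x : K.H} (h1 : x ∈ D.H1) (h2 : x ∈ D.H2) : x = 1 ∨ x = K.ψ K.zc := by
  obtain ⟨g, ⟨r, hr, i, hg⟩, rfl⟩ := h1
  obtain ⟨g', ⟨r', hr', j, hg'⟩, e⟩ := h2
  obtain ⟨k, -, hk⟩ := K.exists_nat (K.ψ_eq.1 e)
  have h : (g : G) = g' * K.y ^ k := by rw [← hk]; group
  change (g : G) = r * D.P.T ^ i at hg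
  change (g' : G) = r' * D.P'.T ^ j at hg'
  rw [hg'] at h
  rw [hg] at h
  have hz := (D.P.S_comm ⟨r, hr, i, rfl⟩).1
  have hz' := (D.P'.S_comm ⟨r', hr', j, rfl⟩).1
  have hπ : t1 ^ i = t2 ^ j * g0 ^ k := by
    rw [← D.ht, ← D.ht', ← D.P.pi_S hr i hz, ← D.P'.pi_S hr' j hz', ← K.piy, ← pi_pow K.F K.hyz,
      ← π_mul K.F hz' (K.hyz.pow_left k)]
    exact pi_congr K.F hz _ h
  have e3' : e3 (2 * k) i (2 * j) = 1 := by
    rw [e3, hπ, show g0 ^ (2 * k) * (t2 ^ j * g0 ^ k) * t2 ^ (2 * j) =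
      g0 ^ (2 * k) * (t2 ^ j * g0 ^ k) * t2 ^ (2 * j) from rfl, (comm_g_t2.pow_pow k j).symm.eq, ← mul_assoc,
      ← pow_add, mul_assoc, ← pow_add, show 2 * k + k = 3 * k by ring, show j + 2 * j = 3 * j by ring, pow_mul,
      pow_mul, rot0.cube, rot2.cube, one_pow, one_pow, mul_one]
  obtain ⟨hk3, hi3, hj3⟩ := e3_zero e3'
  have hj3' : j % 3 = 0 := by omega
  have hk3' : k % 3 = 0 := by omega
  have red : ∀ {a : G}, a ^ 3 = 1 → ∀ {n : ℕ}, n % 3 = 0 → a ^ n = 1 := fun {a} ha {n} hn => by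
    rw [← Nat.div_add_mod n 3, hn, add_zero, pow_mul, ha, one_pow]
  rw [red D.P.T3 hi3, red D.P'.T3 hj3', red K.y3 hk3', mul_one, mul_one, mul_one] at h
  rw [red D.P.T3 hi3, mul_one] at hg
  have hv : K.F.vec r = 0 := by
    have a1 := hr.2
    have a2 := hr'.2
    rw [← h] at a2
    obtain ⟨oa, ob, oa', ob', o1, o2, o3, o4, -, -⟩ := D.o
    simp only [Set.mem_insert_iff, Set.mem_singleton_iff] at a1 a2
    by_contra hne
    have hq : qm (K.F.vec r) ≠ 0 := fun e => hne ((D.P.qm_R hr.2).1 e)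
    have hor : pol (K.F.vec r) D.P.a = 0 ∧ pol (K.F.vec r) D.P.b = 0 := by
      have p1 : ∀ v w : V, pol v w = pol w v := fun v w => by
        rw [pol_polar, pol_polar, QuadraticMap.polar_comm]
      rcases a2 with e | e | e | e <;> rw [e]
      · exact absurd e hne
      · exact ⟨by rw [p1]; exact o1, by rw [p1]; exact o3⟩
      · exact ⟨by rw [p1]; exact o2, by rw [p1]; exact o4⟩
      · exact ⟨by rw [p1, pol_addr, o1, o2, add_zero], by rw [p1, pol_addr, o3, o4, add_zero]⟩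
    have hp := D.P.rot.pair.2.2
    have p1 : ∀ u v w : V, pol (u + v) w = pol u w + pol v w := fun u v w => by
      simp only [pol_polar, QuadraticMap.polar_add_left]
    rcases a1 with e | e | e | e
    · exact hne e
    · rw [e] at hor; rw [hp] at hor; exact one_ne_zero hor.2
    · rw [e, pol_polar, QuadraticMap.polar_comm, ← pol_polar, hp] at hor; exact one_ne_zero hor.1
    · have h2 := hor.2
      rw [e, p1, pol_self, hp, add_zero] at h2; exact one_ne_zero h2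
  rcases (K.F.vec_zero r hr.1).1 hv with e' | e' <;> rw [e'] at hg
  · exact Or.inl (by rw [show g = 1 from Subtype.ext hg, map_one])
  · exact Or.inr (congrArg K.ψ (Subtype.ext hg))

theorem Pair2.meet : (D.H1 ⊓ D.H2).map K.H.subtype = Subgroup.zpowers K.zb := by
  refine le_antisymm ?_ ((Subgroup.zpowers_le).2 ⟨K.ψ K.zc, ⟨K.mem_img D.P.S_le_CY (D.P.R_le D.P.z_mem),
    K.mem_img D.P'.S_le_CY (D.P'.R_le D.P'.z_mem)⟩, rfl⟩)
  rintro _ ⟨x, ⟨h1, h2⟩, rfl⟩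
  rcases D.meet_set h1 h2 with e | e <;> rw [e]
  · simp
  · exact Subgroup.mem_zpowers K.zb

/-- the image of the fixed part of the extraspecial subgroup -/
noncomputable def Ctx.RH (K : Ctx z Q) : Subgroup K.H := K.img K.CQ

theorem Ctx.card_RH (K : Ctx z Q) : Nat.card K.RH = 32 := by
  obtain ⟨e⟩ := K.img_iso K.CQ_le fun g hg hy => by
    obtain ⟨i, -, rfl⟩ := K.exists_nat hy
    exact K.mem_Q_y hg.1
  rw [Ctx.RH, Nat.card_congr e.toEquiv, K.card_CQ]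

instance Ctx.RH_normal (K : Ctx z Q) : K.RH.Normal := by
  refine Subgroup.Normal.map ⟨fun n hn g => ?_⟩ K.ψ K.ψ_surj
  exact ⟨K.h.norm g g.2.1 n hn.1, (g * n * g⁻¹).2.2⟩

theorem Ctx.RH_two (K : Ctx z Q) : IsPGroup 2 K.RH := IsPGroup.of_card (n := 5) (by rw [K.card_RH]; norm_num)

theorem Pair2.card_join : Nat.card ↥(D.H1 ⊔ D.H2) = 288 := by
  rw [D.join]
  have hker : K.ψ.ker ≤ K.N0 := fun g hg => by
    obtain ⟨i, -, e⟩ := K.exists_nat (K.ψ_one.1 hg)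
    show K.PI g ∈ N3
    rw [K.PI_val, pi_congr K.F g.2.1 (K.hyz.pow_left i) e, pi_pow K.F K.hyz, K.piy]
    exact pow_mem (mem_N3.2 ⟨Commute.refl _, comm_g_t1, comm_g_t2⟩) i
  have h1 : (K.N0.map K.ψ).index = K.N0.index := Subgroup.index_map_eq _ K.ψ_surj hker
  have h2 : K.N0.index = 4 := by
    rw [Ctx.N0, Subgroup.index_comap, K.PI_range]
    have hle : N3 ≤ C0 := fun n hn => mem_C0.2 (mem_N3.1 hn).1
    have h := Subgroup.card_mul_index (N3.subgroupOf C0)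
    rw [Nat.card_congr (Subgroup.subgroupOfEquivOfLe hle).toEquiv, card_N3, card_C0] at h
    have : N3.relIndex C0 = 4 := by rw [Subgroup.relIndex]; omega
    exact this
  have h := Subgroup.card_mul_index (K.N0.map K.ψ)
  rw [h1, h2, K.card_H] at h
  omega

theorem Pair2.RH_le : K.RH ≤ D.H1 ⊔ D.H2 := by
  rintro _ ⟨g, hg, rfl⟩
  refine D.mem_of_PI ?_
  rw [show K.PI g = 1 from π_Q K.F K.h hg.1]
  exact one_mem _

theorem Pair2.pCore_join : (Cfsg.pCore 2 ↥(D.H1 ⊔ D.H2)).map (D.H1 ⊔ D.H2).subtype = K.RH := by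
  haveI : Fact (Nat.Prime 2) := ⟨Nat.prime_two⟩
  set R' := K.RH.subgroupOf (D.H1 ⊔ D.H2)
  have hc : Nat.card R' = 32 := by
    rw [Nat.card_congr (Subgroup.subgroupOfEquivOfLe D.RH_le).toEquiv, K.card_RH]
  have hp : IsPGroup 2 R' := IsPGroup.of_card (n := 5) (by rw [hc]; norm_num)
  have hi : ¬ 2 ∣ R'.index := by
    have h := Subgroup.card_mul_index R'
    rw [hc, D.card_join] at h
    omega
  have e : Cfsg.pCore 2 ↥(D.H1 ⊔ D.H2) = R' := le_antisymm (Fusion.pCore_le_sylow (hp.toSylow hi)) (Fusion.le_pCore hp)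
  rw [e, Subgroup.subgroupOf_map_subtype, inf_eq_left.2 D.RH_le]

theorem Pair2.pCore_H (D : Pair2 K) : Cfsg.pCore 2 K.H = K.RH := by
  haveI : Fact (Nat.Prime 2) := ⟨Nat.prime_two⟩
  refine le_antisymm (fun x hx => ?_) (Fusion.le_pCore K.RH_two)
  haveI : (Cfsg.pCore 2 K.H).Normal := Solv.pCore_normal 2
  have hO : IsPGroup 2 (Cfsg.pCore 2 K.H) := Fusion.isPGroup_pCore 2 K.H
  set R' := K.RH.subgroupOf (D.H1 ⊔ D.H2)
  have hc : Nat.card R' = 32 := by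
    rw [Nat.card_congr (Subgroup.subgroupOfEquivOfLe D.RH_le).toEquiv, K.card_RH]
  have hp : IsPGroup 2 R' := IsPGroup.of_card (n := 5) (by rw [hc]; norm_num)
  have hi : ¬ 2 ∣ R'.index := by
    have h := Subgroup.card_mul_index R'
    rw [hc, D.card_join] at h
    omega
  have hON : ∀ w ∈ Cfsg.pCore 2 K.H, w ∈ D.H1 ⊔ D.H2 → w ∈ K.RH := by
    intro w hw hwN
    have h1 : (Cfsg.pCore 2 K.H).subgroupOf (D.H1 ⊔ D.H2) ≤ R' :=
      (Fusion.le_pCore (hO.comap_subtype)).trans (Fusion.pCore_le_sylow (hp.toSylow hi))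
    exact h1 (show (⟨w, hwN⟩ : ↥(D.H1 ⊔ D.H2)) ∈ (Cfsg.pCore 2 K.H).subgroupOf (D.H1 ⊔ D.H2) from hw)
  obtain ⟨c, rfl⟩ := K.ψ_surj x
  refine hON _ hx (D.mem_of_PI ?_)
  have hcg : Commute (K.PI c) g0 := K.pi_comm c.2.1 c.2.2
  have comm_t : ∀ P : Pl K, P.t ∈ N3 → InF P.a → InF P.b → (P.t = t1 ∨ P.t = t2) → Commute (K.PI c) P.t := by
    intro P hN ha hb htt
    set T : K.CY := ⟨P.T, P.hTz, P.hTy⟩
    have hTN : K.ψ T ∈ D.H1 ⊔ D.H2 := D.mem_of_PI (by rw [K.PI_val]; exact P.piT ▸ hN)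
    have hnorm : K.ψ c * K.ψ T * (K.ψ c)⁻¹ * (K.ψ T)⁻¹ ∈ D.H1 ⊔ D.H2 := by
      rw [← map_mul, ← map_inv, ← map_mul, ← map_inv, ← map_mul]
      refine D.mem_of_PI ?_
      rw [map_mul, map_mul, map_mul, map_inv, map_inv]
      exact mul_mem (N3_normal hcg (show K.PI T ∈ N3 by rw [K.PI_val]; exact P.piT ▸ hN))
        (inv_mem (show K.PI T ∈ N3 by rw [K.PI_val]; exact P.piT ▸ hN))
    have hin : K.ψ c * K.ψ T * (K.ψ c)⁻¹ * (K.ψ T)⁻¹ ∈ Cfsg.pCore 2 K.H := by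
      rw [show K.ψ c * K.ψ T * (K.ψ c)⁻¹ * (K.ψ T)⁻¹ = K.ψ c * (K.ψ T * (K.ψ c)⁻¹ * (K.ψ T)⁻¹) by group]
      exact mul_mem hx (Subgroup.Normal.conj_mem inferInstance _ (inv_mem hx) _)
    obtain ⟨q, hq, e⟩ := hON _ hin hnorm
    rw [← map_mul, ← map_inv, ← map_mul, ← map_inv, ← map_mul] at e
    obtain ⟨i, -, hi⟩ := K.exists_nat (K.ψ_eq.1 e)
    have hπ : K.PI (c * T * c⁻¹ * T⁻¹) = g0 ^ i := by
      have h1 : c * T * c⁻¹ * T⁻¹ = q * ⟨K.y ^ i, pow_mem (show K.y ∈ K.CY from ⟨K.hyz, Commute.refl _⟩) i⟩ :=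
        Subtype.ext (by
          show _ = (q : G) * K.y ^ i
          rw [← hi]; group)
      rw [h1, map_mul, show K.PI q = 1 from π_Q K.F K.h hq.1, one_mul, K.PI_val]
      exact (pi_pow K.F K.hyz i).trans (by rw [K.piy])
    rw [map_mul, map_mul, map_mul, map_inv, map_inv, show K.PI T = P.t from P.piT] at hπ
    have e' : K.PI c * P.t * (K.PI c)⁻¹ = g0 ^ i * P.t := by rw [← hπ]; group
    have hfour := conj_rot hcg P.rot ha hb
    rw [e'] at hfour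
    refine mul_inv_eq_iff_eq_mul.1 (e'.trans ?_)
    suffices i % 3 = 0 by
      rw [← Nat.div_add_mod i 3, this, add_zero, pow_mul, rot0.cube, one_pow, one_mul]
    have two : ∀ t : Ga, t ^ 3 = 1 → t⁻¹ = t ^ 2 := fun t ht =>
      inv_eq_of_mul_eq_one_right (by rw [← pow_succ', ht])
    rw [two t1 rot1.cube, two t2 rot2.cube] at hfour
    rcases htt with ht | ht <;> rw [ht] at hfour
    · rcases hfour with e | e | e | e
      · exact (e3_zero (i := i) (j := 0) (k := 0) (by rw [e3, mul_eq_right.1 e]; simp)).1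
      · exact (e3_zero (i := i) (j := 2) (k := 0) (by rw [e3, pow_zero, mul_one, pow_two, ← mul_assoc, e, pow_two, mul_assoc, ← pow_two, ← pow_succ', rot1.cube])).1
      · exact (e3_zero (i := i) (j := 1) (k := 2) (by rw [e3, pow_one, e, ← pow_succ', rot2.cube])).1
      · exact (e3_zero (i := i) (j := 1) (k := 1) (by rw [e3, pow_one, pow_one, e, ← pow_succ, rot2.cube])).1
    · rcases hfour with e | e | e | e
      · exact (e3_zero (i := i) (j := 2) (k := 1) (by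
          rw [e3, pow_one, mul_assoc, (comm_t1_t2.pow_left 2).eq, ← mul_assoc, e, ← pow_succ', rot1.cube])).1
      · exact (e3_zero (i := i) (j := 1) (k := 1) (by
          rw [e3, pow_one, pow_one, mul_assoc, comm_t1_t2.eq, ← mul_assoc, e, ← pow_succ, rot1.cube])).1
      · exact (e3_zero (i := i) (j := 0) (k := 0) (by rw [e3, mul_eq_right.1 e]; simp)).1
      · exact (e3_zero (i := i) (j := 0) (k := 2) (by rw [e3, pow_zero, mul_one, pow_two, ← mul_assoc, e, pow_two, mul_assoc, ← pow_two, ← pow_succ', rot2.cube])).1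
  refine mem_N3.2 ⟨hcg, ?_, ?_⟩
  · exact D.ht ▸ comm_t D.P (D.ht ▸ t_mem.1) D.P.ha D.P.hb (Or.inl D.ht)
  · exact D.ht' ▸ comm_t D.P' (D.ht' ▸ t_mem.2) D.P'.ha D.P'.hb (Or.inr D.ht')

theorem Pair2.gfit (D : Pair2 K) : Cfsg.generalizedFittingSubgroup K.H = K.RH := by
  haveI : Fact (Nat.Prime 2) := ⟨Nat.prime_two⟩
  rw [(Fusion.gfit_eq_pCore_iff (p := 2)).2 ?_, D.pCore_H]
  rw [D.pCore_H]
  intro x hx
  obtain ⟨c, rfl⟩ := K.ψ_surj x
  have hall : ∀ a ∈ Q, Commute a K.y → Commute (c : G) a := by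
    intro a ha hay
    have e := Subgroup.mem_centralizer_iff.1 hx _ (K.mem_img K.CQ_le ⟨ha, hay⟩)
    rw [← map_mul, ← map_mul] at e
    obtain ⟨i, -, hi⟩ := K.exists_nat (K.ψ_eq.1 e)
    change (a * (c : G))⁻¹ * ((c : G) * a) = K.y ^ i at hi
    have hq : K.y ^ i ∈ Q := by
      rw [← hi, show (a * (c : G))⁻¹ * ((c : G) * a) = (c : G)⁻¹ * a⁻¹ * (c : G) * a by group]
      refine mul_mem ?_ ha
      simpa using K.h.norm _ c.2.1.inv_left _ (inv_mem ha)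
    rw [K.mem_Q_y hq] at hi
    exact (inv_mul_eq_one.1 hi).symm
  have hfix : ∀ v, InF v → K.PI c • v = v := by
    intro v hv
    obtain ⟨a, ha, rfl⟩ := K.F.vec_surj v
    exact fix_of_comm K.F K.h c.2.1 ha (hall a ha ((K.comm_iff ha).2 hv))
  obtain ⟨i, -, ia, ib⟩ := comm_move (K.pi_comm c.2.1 c.2.2)
  obtain ⟨f5, f11, f10, f7, -⟩ := inF_vals
  obtain ⟨a1, a2, a3, a4⟩ := g0_fix_four
  have hπ : K.PI c = g0 ^ i := ext6 ia ib (by rw [hfix _ f5, pow_fix a1]) (by rw [hfix _ f11, pow_fix a2])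
    (by rw [hfix _ f10, pow_fix a3]) (by rw [hfix _ f7, pow_fix a4])
  set q := (c : G) * (K.y ^ i)⁻¹ with hq
  have hqQ : q ∈ Q := (K.F.π_ker (cC c.2.1 * (cC (K.hyz.pow_left i))⁻¹)).1 (by
    rw [map_mul, map_inv, pi_pow K.F K.hyz, K.piy, ← K.PI_val, hπ, mul_inv_cancel])
  have hqy : Commute q K.y := c.2.2.mul_left ((Commute.refl K.y).pow_left i).inv_left
  refine ⟨⟨q, K.CQ_le ⟨hqQ, hqy⟩⟩, ⟨hqQ, hqy⟩, K.ψ_eq.2 ?_⟩
  show q⁻¹ * (c : G) ∈ _
  rw [hq, show ((c : G) * (K.y ^ i)⁻¹)⁻¹ * (c : G) = K.y ^ i by group]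
  exact pow_mem (Subgroup.mem_zpowers _) i

theorem Ctx.RH_map (K : Ctx z Q) {x : K.L ⧸ K.P} :
    x ∈ K.RH.map K.H.subtype ↔ ∃ a ∈ Q, ∃ hy : Commute a K.y, x = K.pr ⟨a, commute_zp K hy⟩ := by
  constructor
  · rintro ⟨-, ⟨g, hg, rfl⟩, rfl⟩; exact ⟨g, hg.1, g.2.2, rfl⟩
  · rintro ⟨a, ha, hy, rfl⟩
    exact ⟨_, K.mem_img K.CQ_le ⟨ha, hy⟩, rfl⟩

theorem Ctx.zb_ord (K : Ctx z Q) : orderOf K.zb = 2 := by
  refine orderOf_eq_prime ?_ fun e => ?_
  · rw [Ctx.zb, ← map_pow, show (⟨z, commute_zp K K.hyz.symm⟩ : K.L) ^ 2 = 1 from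
      Subtype.ext (by rw [SubmonoidClass.coe_pow, pow_two, zz K.h]; rfl), map_one]
  · obtain ⟨i, -, hi⟩ := K.exists_nat (Subgroup.mem_subgroupOf.1 ((QuotientGroup.eq_one_iff _).1 e))
    exact z_ne K.h (hi.trans (K.mem_Q_y (hi ▸ zQ K.h)))

theorem Ctx.pr_inj (K : Ctx z Q) {a b : G} (ha : a ∈ Q) (hb : b ∈ Q) (hay : Commute a K.y) (hby : Commute b K.y)
    (e : K.pr ⟨a, commute_zp K hay⟩ = K.pr ⟨b, commute_zp K hby⟩) : a = b := by
  obtain ⟨i, -, hi⟩ := K.exists_nat (Subgroup.mem_subgroupOf.1 (QuotientGroup.eq.1 e))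
  change a⁻¹ * b = K.y ^ i at hi
  rw [K.mem_Q_y (hi ▸ mul_mem (inv_mem ha) hb)] at hi
  exact inv_mul_eq_one.1 hi

theorem Ctx.nwc (K : Ctx z Q) : ∃ g : K.L ⧸ K.P, (∃ hq : g * K.zb * g⁻¹ ∈ K.H,
    (⟨g * K.zb * g⁻¹, hq⟩ : K.H) ∈ K.RH) ∧ g * K.zb * g⁻¹ ≠ K.zb := by
  obtain ⟨x, B, hxy⟩ := exists_base0 K
  obtain ⟨g, hgy, hg⟩ := K.conj_base B hxy
  have e : K.pr ⟨g, commute_zp K hgy⟩ * K.zb * (K.pr ⟨g, commute_zp K hgy⟩)⁻¹ = K.pr ⟨x, commute_zp K hxy⟩ := by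
    rw [Ctx.zb, ← map_inv, ← map_mul, ← map_mul]
    exact congrArg K.pr (Subtype.ext hg)
  refine ⟨K.pr ⟨g, commute_zp K hgy⟩, ?_, fun h => ?_⟩
  · rw [e]
    exact ⟨(K.ψ ⟨x, K.CQ_le ⟨B.mem, hxy⟩⟩).2, K.mem_img K.CQ_le ⟨B.mem, hxy⟩⟩
  · rw [e, Ctx.zb] at h
    exact B.nez (K.pr_inj B.mem (zQ K.h) hxy K.hyz.symm h)

theorem Ctx.inter_four (K : Ctx z Q) (g : K.L ⧸ K.P) (hg : g * K.zb * g⁻¹ ∈ K.RH.map K.H.subtype)
    (hne : g * K.zb * g⁻¹ ≠ K.zb) :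
    Nat.card ↥(K.RH.map K.H.subtype ⊓ (K.RH.map K.H.subtype).map (MulAut.conj g).toMonoidHom) = 4 := by
  classical
  obtain ⟨⟨g1, hg1⟩, rfl⟩ := QuotientGroup.mk'_surjective K.P g
  have hg1y := of_mem_cent K hg1
  obtain ⟨v, hv, hvy, hgv⟩ := K.RH_map.1 hg
  rw [Ctx.zb, ← map_inv, ← map_mul, ← map_mul] at hgv
  -- the conjugate is exact
  have hexact : g1 * z * g1⁻¹ = v := by
    obtain ⟨i, -, hi⟩ := K.exists_nat (Subgroup.mem_subgroupOf.1 (QuotientGroup.eq.1 hgv))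
    change (g1 * z * g1⁻¹)⁻¹ * v = K.y ^ i at hi
    set s := g1 * z * g1⁻¹ with hs
    have hss : s * s = 1 := by rw [hs, conj_mul, zz K.h]; group
    have hsy : Commute s K.y := (hg1y.mul_left K.hyz.symm).mul_left hg1y.inv_left
    have hvs : v = s * K.y ^ i := by rw [← hi]; group
    have h4 : v ^ 4 = 1 := by
      rw [show (4 : ℕ) = 2 * 2 from rfl, pow_mul, pow_two, pow_two]
      rcases K.F.sq_or v hv with e | e <;> rw [e]
      · exact one_mul 1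
      · exact zz K.h
    rw [hvs, (hsy.pow_right i).mul_pow, show s ^ 4 = 1 by rw [show (4 : ℕ) = 2 * 2 from rfl, pow_mul, pow_two s, hss, one_pow],
      one_mul, pow_succ, show (K.y ^ i) ^ 3 = 1 by rw [← pow_mul, mul_comm, pow_mul, K.y3, one_pow], one_mul] at h4
    rw [hvs, h4, mul_one]
  have hvv : v * v = 1 := by rw [← hexact, conj_mul, zz K.h]; group
  have hv1 : v ≠ 1 := fun e => z_ne K.h (conj_eq_one_iff.1 (hexact.trans e))
  have hvz : v ≠ z := fun e => hne (by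
    rw [Ctx.zb, ← map_inv, ← map_mul, ← map_mul]
    exact congrArg K.pr (Subtype.ext (hexact.trans e)))
  obtain ⟨x, B, hxy⟩ := exists_base0 K
  obtain ⟨d, hd, hdy, hdv⟩ := K.move_to_base B hxy hv hvv hv1 hvz hvy
  have hgx : d⁻¹ * g1 * z * (d⁻¹ * g1)⁻¹ = x := by
    rw [show d⁻¹ * g1 * z * (d⁻¹ * g1)⁻¹ = d⁻¹ * (g1 * z * g1⁻¹) * d by group, hexact, ← hdv]; group
  have hfour : ∀ k ∈ ({1, z, v, v * z} : Finset G), k ∈ Q ∧ Commute k K.y ∧ g1⁻¹ * k * g1 ∈ Q := by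
    have hzv : g1⁻¹ * z * g1 ∈ Q := by
      have h1 := (inQ_iff K.h hgx).1 (base_mem K.F K.h B)
      rwa [show (d⁻¹ * g1)⁻¹ * z * (d⁻¹ * g1) = g1⁻¹ * (d * z * d⁻¹) * g1 by group, hd.eq,
        mul_inv_cancel_right] at h1
    have hvv' : g1⁻¹ * v * g1 ∈ Q := by
      rw [← hexact, show g1⁻¹ * (g1 * z * g1⁻¹) * g1 = z by group]; exact zQ K.h
    intro k hk
    simp only [Finset.mem_insert, Finset.mem_singleton] at hk
    rcases hk with e | e | e | e <;> rw [e]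
    · exact ⟨one_mem Q, Commute.one_left _, by simp⟩
    · exact ⟨zQ K.h, K.hyz.symm, hzv⟩
    · exact ⟨hv, hvy, hvv'⟩
    · exact ⟨mul_mem hv (zQ K.h), hvy.mul_left K.hyz.symm, by
        rw [show g1⁻¹ * (v * z) * g1 = g1⁻¹ * v * g1 * (g1⁻¹ * z * g1) by group]; exact mul_mem hvv' hzv⟩
  let J := K.RH.map K.H.subtype ⊓ (K.RH.map K.H.subtype).map (MulAut.conj (K.pr ⟨g1, hg1⟩)).toMonoidHom
  let f : ({1, z, v, v * z} : Finset G) → J := fun k => ⟨K.pr ⟨k, commute_zp K (hfour k k.2).2.1⟩,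
    K.RH_map.2 ⟨k, (hfour k k.2).1, (hfour k k.2).2.1, rfl⟩,
    K.pr ⟨g1⁻¹ * k * g1, commute_zp K ((hg1y.inv_left.mul_left (hfour k k.2).2.1).mul_left hg1y)⟩,
    K.RH_map.2 ⟨_, (hfour k k.2).2.2, (hg1y.inv_left.mul_left (hfour k k.2).2.1).mul_left hg1y, rfl⟩, by
      show K.pr ⟨g1, hg1⟩ * _ * (K.pr ⟨g1, hg1⟩)⁻¹ = _
      rw [← map_inv, ← map_mul, ← map_mul]
      exact congrArg K.pr (Subtype.ext (show g1 * (g1⁻¹ * k * g1) * g1⁻¹ = (k : G) by group))⟩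
  have hf : Function.Bijective f := by
    refine ⟨fun a b e => Subtype.ext (K.pr_inj (hfour a a.2).1 (hfour b b.2).1 (hfour a a.2).2.1 (hfour b b.2).2.1 (congrArg Subtype.val e)), ?_⟩
    rintro ⟨w, h1, h2⟩
    obtain ⟨a, ha, hay, rfl⟩ := K.RH_map.1 h1
    obtain ⟨w', hw', e⟩ := h2
    obtain ⟨b, hb, hby, rfl⟩ := K.RH_map.1 hw'
    change K.pr ⟨g1, hg1⟩ * K.pr _ * (K.pr ⟨g1, hg1⟩)⁻¹ = _ at e
    rw [← map_inv, ← map_mul, ← map_mul] at e
    obtain ⟨i, -, hi⟩ := K.exists_nat (Subgroup.mem_subgroupOf.1 (QuotientGroup.eq.1 e))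
    change (g1 * b * g1⁻¹)⁻¹ * a = K.y ^ i at hi
    have hab : a = g1 * b * g1⁻¹ * K.y ^ i := by rw [← hi]; group
    have hp : ∀ {u : G}, u ∈ Q → u ^ 4 = 1 := fun {u} hu => by
      rw [show (4 : ℕ) = 2 * 2 from rfl, pow_mul, pow_two, pow_two]
      rcases K.F.sq_or u hu with e | e <;> rw [e]
      · exact one_mul 1
      · exact zz K.h
    have hy1 : K.y ^ i = 1 := by
      have hcy : Commute (g1 * b * g1⁻¹) K.y := (hg1y.mul_left hby).mul_left hg1y.inv_left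
      have h4 := hp ha
      rwa [hab, (hcy.pow_right i).mul_pow, conj_pow, hp hb, mul_one, mul_inv_cancel, one_mul, pow_succ,
        show (K.y ^ i) ^ 3 = 1 by rw [← pow_mul, mul_comm, pow_mul, K.y3, one_pow], one_mul] at h4
    rw [hy1, mul_one] at hab
    have hax : InQ z Q v a := ⟨g1, hexact, by rw [hab, show g1⁻¹ * (g1 * b * g1⁻¹) * g1 = b by group]; exact hb⟩
    have hax' : InQ z Q x (d⁻¹ * a * d) := by
      have := hax.conj d⁻¹
      rw [inv_inv, ← hdv, show d⁻¹ * (d * x * d⁻¹) * d = x by group] at this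
      exact this
    have haQ : d⁻¹ * a * d ∈ Q := by simpa using K.h.norm d⁻¹ hd.inv_left a ha
    have hk : a ∈ ({1, z, v, v * z} : Finset G) := by
      have ea : a = d * (d⁻¹ * a * d) * d⁻¹ := by group
      simp only [Finset.mem_insert, Finset.mem_singleton]
      rcases sect K.F K.h B haQ hax' with e' | e' | e' | e' <;> rw [e'] at ea
      · exact Or.inl (by rw [ea]; group)
      · exact Or.inr (Or.inl (by rw [ea, hd.eq, mul_inv_cancel_right]))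
      · exact Or.inr (Or.inr (Or.inl (ea.trans hdv)))
      · refine Or.inr (Or.inr (Or.inr (ea.trans ?_)))
        rw [show d * (x * z) * d⁻¹ = d * x * d⁻¹ * (d * z * d⁻¹) by group, hdv, hd.eq, mul_inv_cancel_right]
    exact ⟨⟨a, hk⟩, Subtype.ext rfl⟩
  rw [← Nat.card_eq_of_bijective f hf, Nat.card_eq_fintype_card, Fintype.card_coe]
  have n1 : v * z ≠ 1 := fun e => hvz (by rw [eq_inv_of_mul_eq_one_left e, inv_eq_of_mul_eq_one_right (zz K.h)])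
  have n2 : v * z ≠ z := fun e => hv1 (mul_eq_right.1 e)
  have n3 : v * z ≠ v := fun e => z_ne K.h (mul_eq_left.1 e)
  simp [(z_ne K.h).symm, hv1.symm, hvz.symm, n1.symm, n2.symm, n3.symm]

end Cfsg.Agent.Spor.SuzT.Three
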